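import Mathlib
import Groth.Agent.Ega43FP2.SkScheme
import Groth.Agent.Calg1.SerreConditions
import Groth.Agent.Ega4Algebra2.DepthFlat
import Groth.Agent.Ega4Algebra2.SchemeFibre
import Groth.Agent.Ega4Algebra2.CMEquiv
import Groth.Agent.Ega4Algebra1.LocalRk
import Groth.Agent.VarietyBC.Reduced
import Groth.Agent.VarietyBC.ReducedCharP
import Groth.Agent.S1542
import Groth.Agent.S1562
import Groth.Agent.S7606
import Groth.Prelude.Def_FDesc

/-!
# Geometric `(R_m)`, reducedness and normality of a scheme over a field in terms of its smooth locus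
-/

set_option autoImplicit false
set_option linter.style.haveILetI false
universe u

open CategoryTheory CategoryTheory.Limits AlgebraicGeometry IsLocalRing

set_option synthInstance.maxHeartbeats 400000
set_option maxHeartbeats 1600000

namespace Groth.Ega43Geom

/-- A quantity of the local rings at all primes of a stalk, read on the generizations of the point. -/
theorem forall_prime_stalk_iff {Z : Scheme.{u}} (z : Z) (φ : ∀ (R : Type u) [CommRing R], Prop)
    (hφ : ∀ {R R' : Type u} [CommRing R] [CommRing R'], (R ≃+* R') → φ R → φ R') :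
    (∀ (p : Ideal (Z.presheaf.stalk z)) [p.IsPrime], φ (Localization.AtPrime p)) ↔
      ∀ w : Z, w ⤳ z → φ (Z.presheaf.stalk w) := by
  obtain ⟨V, hV, hzV, -⟩ := exists_isAffineOpen_mem_and_subset (U := (⊤ : Z.Opens)) (x := z) trivial
  let q := hV.primeIdealOf ⟨z, hzV⟩
  let : Algebra Γ(Z, V) (Z.presheaf.stalk z) := (Z.presheaf.germ V z hzV).hom.toAlgebra
  have hlz : IsLocalization.AtPrime (Z.presheaf.stalk z) q.asIdeal := hV.isLocalization_stalk ⟨z, hzV⟩
  have key : ∀ (p : Ideal (Z.presheaf.stalk z)) [p.IsPrime] (w : Z) (hw : w ∈ V),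
      (hV.primeIdealOf ⟨w, hw⟩).asIdeal = p.comap (algebraMap Γ(Z, V) (Z.presheaf.stalk z)) →
      (φ (Localization.AtPrime p) ↔ φ (Z.presheaf.stalk w)) := by
    intro p _ w hw he
    let : Algebra Γ(Z, V) (Z.presheaf.stalk w) := (Z.presheaf.germ V w hw).hom.toAlgebra
    have hlw : IsLocalization.AtPrime (Z.presheaf.stalk w) (hV.primeIdealOf ⟨w, hw⟩).asIdeal :=
      hV.isLocalization_stalk ⟨w, hw⟩
    have hl : IsLocalization.AtPrime (Localization.AtPrime p) (p.comap (algebraMap Γ(Z, V) (Z.presheaf.stalk z))) :=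
      IsLocalization.isLocalization_isLocalization_atPrime_isLocalization q.asIdeal.primeCompl _ p
    have hsub : (hV.primeIdealOf ⟨w, hw⟩).asIdeal.primeCompl =
        (p.comap (algebraMap Γ(Z, V) (Z.presheaf.stalk z))).primeCompl := by
      ext a
      show a ∉ _ ↔ a ∉ _
      rw [he]
    have hl' : IsLocalization (hV.primeIdealOf ⟨w, hw⟩).asIdeal.primeCompl (Localization.AtPrime p) := by
      rw [hsub]; exact hl
    let e := (IsLocalization.algEquiv (hV.primeIdealOf ⟨w, hw⟩).asIdeal.primeCompl (Localization.AtPrime p)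
        (Z.presheaf.stalk w)).toRingEquiv
    exact ⟨hφ e, hφ e.symm⟩
  constructor
  · intro h w hwz
    have hw : w ∈ V := hwz.mem_open V.isOpen hzV
    have hle : (hV.primeIdealOf ⟨w, hw⟩).asIdeal ≤ q.asIdeal := by
      rw [PrimeSpectrum.asIdeal_le_asIdeal, PrimeSpectrum.le_iff_specializes]
      refine (hV.fromSpec.isOpenEmbedding.toIsInducing.specializes_iff).1 ?_
      rw [hV.fromSpec_primeIdealOf, hV.fromSpec_primeIdealOf]
      exact hwz
    have hd : Disjoint (q.asIdeal.primeCompl : Set Γ(Z, V)) (hV.primeIdealOf ⟨w, hw⟩).asIdeal :=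
      Set.disjoint_left.2 fun a ha haw => ha (hle haw)
    have := IsLocalization.isPrime_of_isPrime_disjoint q.asIdeal.primeCompl (Z.presheaf.stalk z)
      (hV.primeIdealOf ⟨w, hw⟩).asIdeal inferInstance hd
    exact (key _ w hw (IsLocalization.under_map_of_isPrime_disjoint q.asIdeal.primeCompl _ inferInstance hd).symm).1 (h _)
  · intro h p _
    let P : Spec Γ(Z, V) := PrimeSpectrum.comap (algebraMap Γ(Z, V) (Z.presheaf.stalk z)) ⟨p, ‹_›⟩
    have hP : hV.fromSpec P ∈ V := hV.range_fromSpec.subset ⟨_, rfl⟩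
    have he : hV.primeIdealOf ⟨_, hP⟩ = P := hV.fromSpec.isOpenEmbedding.injective (hV.fromSpec_primeIdealOf _)
    have hsp : hV.fromSpec P ⤳ z := by
      have hPq : P ⤳ q := (PrimeSpectrum.le_iff_specializes P q).1
        ((IsLocalization.AtPrime.orderIsoOfPrime (Z.presheaf.stalk z) q.asIdeal ⟨p, ‹_›⟩).2.2)
      have := hPq.map hV.fromSpec.continuous
      rwa [hV.fromSpec_primeIdealOf] at this
    exact (key p _ hP (congrArg PrimeSpectrum.asIdeal he)).2 (h _ hsp)

theorem hasRk_stalk_iff {Z : Scheme.{u}} (z : Z) (m : ℕ) :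
    LocCoh.HasRk m (Z.presheaf.stalk z) ↔
      ∀ w : Z, w ⤳ z → ringKrullDim (Z.presheaf.stalk w) ≤ m → IsRegularLocalRing (Z.presheaf.stalk w) := by
  rw [← forall_prime_stalk_iff z (fun R _ => ringKrullDim R ≤ m → IsRegularLocalRing R) fun e h hd => by
    haveI := h ((ringKrullDim_eq_of_ringEquiv e).trans_le hd)
    exact IsRegularLocalRing.of_ringEquiv e]
  refine forall₂_congr fun p _ => ?_
  rw [IsLocalization.AtPrime.ringKrullDim_eq_height p]
  norm_cast

theorem normal_stalk_iff {Z : Scheme.{u}} [IsLocallyNoetherian Z] (z : Z) :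
    (IsDomain (Z.presheaf.stalk z) ∧ IsIntegrallyClosed (Z.presheaf.stalk z)) ↔
      LocCoh.HasRk 1 (Z.presheaf.stalk z) ∧ LocCoh.HasSk 2 (Z.presheaf.stalk z) (Z.presheaf.stalk z) := by
  let R := Z.presheaf.stalk z
  refine Iff.trans ?_ (Groth.Calg1.normal_iff (R := R))
  constructor
  · rintro ⟨hd, hi⟩ p _
    exact ⟨IsLocalization.isDomain_localization p.primeCompl_le_nonZeroDivisors,
      isIntegrallyClosed_of_isLocalization _ p.primeCompl p.primeCompl_le_nonZeroDivisors⟩
  · intro h
    obtain ⟨h1, h2⟩ := h (maximalIdeal R)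
    let e : R ≃+* Localization.AtPrime (maximalIdeal R) :=
      (IsLocalization.atUnits R (maximalIdeal R).primeCompl (fun a ha => IsLocalRing.notMem_maximalIdeal.1 ha)).toRingEquiv
    haveI := h1
    haveI := h2
    exact ⟨MulEquiv.isDomain (Localization.AtPrime (maximalIdeal R)) e.toMulEquiv, IsIntegrallyClosed.of_equiv e.symm⟩

variable (k : Type u) [Field k] {Z : Scheme.{u}} [Z.Over (Spec (CommRingCat.of k))]
  [LocallyOfFinitePresentation (Z ↘ Spec (CommRingCat.of k))]

/-- All generizations of codimension at most `m` are smooth points. -/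
def SmoothUpTo (m : ℕ) (z : Z) : Prop :=
  ∀ w : Z, w ⤳ z → ringKrullDim (Z.presheaf.stalk w) ≤ m →
    w ∈ (Z ↘ Spec (CommRingCat.of k)).smoothLocus

variable {k} (K : Type u) [Field K] [Algebra k K]

instance flat_bcFst : Flat (Curv2.bcFst k Z K) := by
  haveI : Flat (Spec.map (CommRingCat.ofHom (algebraMap k K))) := by
    rw [HasRingHomProperty.Spec_iff (P := @Flat)]
    exact RingHom.flat_algebraMap_iff.2 inferInstance
  exact MorphismProperty.pullback_fst _ _ inferInstance

theorem isFinite_bcFst [FiniteDimensional k K] : IsFinite (Curv2.bcFst k Z K) := by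
  haveI : IsFinite (Spec.map (CommRingCat.ofHom (algebraMap k K))) := by
    rw [IsFinite.SpecMap_iff]
    exact RingHom.finite_algebraMap.2 inferInstance
  exact MorphismProperty.pullback_fst _ _ inferInstance

/-- Along a finite base change of the field, depth and dimension of local rings are unchanged. -/
theorem depth_dim_bcFst [FiniteDimensional k K] (w' : Curv2.bc k Z K) :
    LocCoh.depth ((Curv2.bc k Z K).presheaf.stalk w') ((Curv2.bc k Z K).presheaf.stalk w') =
        LocCoh.depth (Z.presheaf.stalk (Curv2.bcFst k Z K w')) (Z.presheaf.stalk (Curv2.bcFst k Z K w')) ∧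
      ringKrullDim ((Curv2.bc k Z K).presheaf.stalk w') =
        ringKrullDim (Z.presheaf.stalk (Curv2.bcFst k Z K w')) := by
  let π := Curv2.bcFst k Z K
  haveI := isFinite_bcFst (k := k) (Z := Z) K
  haveI : IsLocallyNoetherian Z := LocallyOfFiniteType.isLocallyNoetherian (Z ↘ Spec (CommRingCat.of k))
  haveI : IsLocallyNoetherian (Curv2.bc k Z K) := LocallyOfFiniteType.isLocallyNoetherian π
  let R := Z.presheaf.stalk (π w')
  let S := (Curv2.bc k Z K).presheaf.stalk w'
  letI : Algebra R S := (π.stalkMap w').hom.toAlgebra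
  haveI : IsLocalHom (algebraMap R S) := inferInstanceAs (IsLocalHom (π.stalkMap w').hom)
  haveI : Module.Flat R S := Flat.stalkMap π w'
  obtain ⟨e⟩ := Groth.Ega4b.nonempty_fiberStalk_equiv π w'
  haveI : LocallyOfFiniteType (π.fiberToSpecResidueField (π w')) :=
    inferInstanceAs (LocallyOfFiniteType (pullback.snd π (Z.fromSpecResidueField (π w'))))
  haveI : IsLocallyNoetherian (π.fiber (π w')) :=
    LocallyOfFiniteType.isLocallyNoetherian (π.fiberToSpecResidueField (π w'))
  let F := (π.fiber (π w')).presheaf.stalk (π.asFiber w')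
  have hF : ringKrullDim F = 0 := by
    haveI : LocallyQuasiFinite (π.fiberToSpecResidueField (π w')) :=
      inferInstanceAs (LocallyQuasiFinite (pullback.snd π (Z.fromSpecResidueField (π w'))))
    haveI : DiscreteTopology ↥(π.fiber (π w')) := inferInstance
    exact Groth.Ega4b.ringKrullDim_stalk_eq_zero_of_maximal fun v hv => hv.eq
  have hdepth : LocCoh.depth F F = 0 := by
    haveI : IsNoetherianRing F := inferInstanceAs (IsNoetherianRing ((π.fiber (π w')).presheaf.stalk (π.asFiber w')))
    have h := Groth.LocCohBase.depth_le_supportDim (R := F) F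
    rw [Module.supportDim_self_eq_ringKrullDim, hF] at h
    exact nonpos_iff_eq_zero.1 (WithBot.coe_le_coe.1 h)
  haveI : IsLocalRing (S ⧸ (maximalIdeal R).map (algebraMap R S)) := e.symm.isLocalRing
  constructor
  · rw [Groth.Ega4b.depth_eq_add_of_flat R S,
      Groth.Ega4b.depth_eq_of_ringEquiv (R := S ⧸ (maximalIdeal R).map (algebraMap R S)) (R' := F) e, hdepth, add_zero]
  · rw [Groth.Calg4.ringKrullDim_eq_add_of_flat R S,
      ringKrullDim_eq_of_ringEquiv (R := S ⧸ (maximalIdeal R).map (algebraMap R S)) (S := F) e, hF, add_zero]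

theorem hasSk_bcFst [FiniteDimensional k K] (n : ℕ) (z' : Curv2.bc k Z K)
    (h : LocCoh.HasSk n (Z.presheaf.stalk (Curv2.bcFst k Z K z')) (Z.presheaf.stalk (Curv2.bcFst k Z K z'))) :
    LocCoh.HasSk n ((Curv2.bc k Z K).presheaf.stalk z') ((Curv2.bc k Z K).presheaf.stalk z') := by
  rw [Groth.Ega43FP2.hasSk_stalk_iff] at h ⊢
  intro w' hw'
  obtain ⟨h1, h2⟩ := depth_dim_bcFst K w'
  rw [Groth.Ega4b.SkLoc, h1, h2]
  exact h _ (hw'.map (Curv2.bcFst k Z K).continuous)

theorem hasRk_bcFst [FiniteDimensional k K] (m : ℕ) (z' : Curv2.bc k Z K)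
    (h : SmoothUpTo k m (Curv2.bcFst k Z K z')) : LocCoh.HasRk m ((Curv2.bc k Z K).presheaf.stalk z') := by
  rw [hasRk_stalk_iff]
  intro w' hw' hd
  rw [(depth_dim_bcFst K w').2] at hd
  exact (Groth.Agent.S1562.result k Z _).mpr (h _ (hw'.map (Curv2.bcFst k Z K).continuous) hd) K
    (IntermediateField.fg_of_noetherian _) w' rfl

variable (k) in
/-- Geometric `(R_m)`, tested by finite extensions. -/
theorem geomRk_iff (m : ℕ) (z : Z) :
    (∀ (K : Type u) [Field K] [Algebra k K], Module.Finite k K → ∀ z' : Curv2.bc k Z K,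
      Curv2.bcFst k Z K z' = z → LocCoh.HasRk m ((Curv2.bc k Z K).presheaf.stalk z')) ↔ SmoothUpTo k m z := by
  constructor
  · intro h w hw hd
    haveI : IsLocallyNoetherian Z := LocallyOfFiniteType.isLocallyNoetherian (Z ↘ Spec (CommRingCat.of k))
    obtain ⟨h12, -⟩ := Groth.Agent.S7606.result k Z w
    rw [← Groth.Agent.S1562.result k Z w, h12]
    intro K _ _ _ _ w' hw'
    haveI := isFinite_bcFst (k := k) (Z := Z) K
    obtain ⟨z', hz', hzw⟩ : z ∈ Curv2.bcFst k Z K '' closure {w'} :=
      hw.mem_closed ((Curv2.bcFst k Z K).isClosedMap _ isClosed_closure) ⟨w', subset_closure rfl, hw'⟩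
    have hr := (hasRk_stalk_iff z' m).1 (h K inferInstance z' hzw)
    exact hr w' (specializes_iff_mem_closure.2 hz') (by rw [(depth_dim_bcFst K w').2, hw']; exact hd)
  · rintro h K _ _ hK z' rfl
    exact hasRk_bcFst K m z' h

variable (k) in
/-- The structure of `Z` over itself, as a trivial base change. -/
theorem bcFst_self_bijective : IsIso (Curv2.bcFst k Z k) := by
  haveI : IsIso (Spec.map (CommRingCat.ofHom (algebraMap k k))) := by
    rw [Algebra.algebraMap_self, CommRingCat.ofHom_id, Spec.map_id]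
    infer_instance
  exact pullback_fst_iso_of_right_iso _ _

variable (k) in
/-- Geometrically reduced at a point: `(S_1)` and generically smooth. -/
theorem geomReducedAt_iff (z : Z) :
    Curv2.IsGeomReducedAt k Z z ↔
      LocCoh.HasSk 1 (Z.presheaf.stalk z) (Z.presheaf.stalk z) ∧ SmoothUpTo k 0 z := by
  haveI : IsLocallyNoetherian Z := LocallyOfFiniteType.isLocallyNoetherian (Z ↘ Spec (CommRingCat.of k))
  constructor
  · intro h
    refine ⟨?_, fun w hw hd => ?_⟩
    · rw [Groth.VarietyBC.isGeomReducedAt_iff] at h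
      letI := Curv2.stalkAlgebra k Z z
      haveI := h
      haveI : IsReduced (Z.presheaf.stalk z) := Algebra.isReduced_of_isGeometricallyReduced (k := k)
      exact (Groth.Calg1.isReduced_iff.1 inferInstance).2
    · obtain ⟨h12, -⟩ := Groth.Agent.S7606.result k Z w
      rw [← Groth.Agent.S1562.result k Z w, h12]
      intro K _ _ _ _ w' hw'
      haveI := Groth.Agent.S1542.result k Z z w hw h K w' hw'
      haveI : IsLocallyNoetherian (Curv2.bc k Z K) := by
        haveI := isFinite_bcFst (k := k) (Z := Z) K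
        exact LocallyOfFiniteType.isLocallyNoetherian (Curv2.bcFst k Z K)
      rw [← hw', ← (depth_dim_bcFst K w').2] at hd
      haveI : Ring.KrullDimLE 0 ((Curv2.bc k Z K).presheaf.stalk w') := Ring.krullDimLE_iff.2 hd
      refine Groth.Ega4Algebra1.isRegularLocalRing_of_maximalIdeal_eq_bot ?_
      exact isField_iff_maximalIdeal_eq.1 (Ring.KrullDimLE.isField_of_isReduced)
  · rintro ⟨hS, hR⟩
    rw [Groth.VarietyBC.isGeomReducedAt_iff]
    letI := Curv2.stalkAlgebra k Z z
    refine Groth.VarietyBC.isGeometricallyReduced_of_purelyInseparable fun F _ _ _ _ => ?_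
    refine Groth.VarietyBC.isReduced_tensor_of_stalks F z fun z' hz' => ?_
    subst hz'
    haveI : IsLocallyNoetherian (Curv2.bc k Z F) := by
      haveI := isFinite_bcFst (k := k) (Z := Z) F
      exact LocallyOfFiniteType.isLocallyNoetherian (Curv2.bcFst k Z F)
    exact Groth.Calg1.isReduced_iff.2 ⟨hasRk_bcFst F 0 z' hR, hasSk_bcFst F 1 z' hS⟩

variable (k) in
/-- Geometrically normal at a point, tested by finite extensions: `(S_2)` and smooth in codimension one. -/
theorem geomNormal_iff (z : Z) :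
    (∀ (K : Type u) [Field K] [Algebra k K], Module.Finite k K → ∀ z' : Curv2.bc k Z K,
      Curv2.bcFst k Z K z' = z → IsDomain ((Curv2.bc k Z K).presheaf.stalk z') ∧
        IsIntegrallyClosed ((Curv2.bc k Z K).presheaf.stalk z')) ↔
      LocCoh.HasSk 2 (Z.presheaf.stalk z) (Z.presheaf.stalk z) ∧ SmoothUpTo k 1 z := by
  haveI : IsLocallyNoetherian Z := LocallyOfFiniteType.isLocallyNoetherian (Z ↘ Spec (CommRingCat.of k))
  have hN : ∀ (K : Type u) [Field K] [Algebra k K] [FiniteDimensional k K], IsLocallyNoetherian (Curv2.bc k Z K) :=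
    fun K _ _ _ => by
      haveI := isFinite_bcFst (k := k) (Z := Z) K
      exact LocallyOfFiniteType.isLocallyNoetherian (Curv2.bcFst k Z K)
  constructor
  · intro h
    refine ⟨?_, (geomRk_iff k 1 z).1 fun K _ _ hK z' hz' => ?_⟩
    · haveI := bcFst_self_bijective k (Z := Z)
      obtain ⟨z', hz'⟩ := (Scheme.homeoOfIso (asIso (Curv2.bcFst k Z k))).surjective z
      haveI := hN k
      have h2 := ((normal_stalk_iff z').1 (h k inferInstance z' hz')).2
      rw [Groth.Ega43FP2.hasSk_stalk_iff] at h2 ⊢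
      intro w hw
      obtain ⟨w', hw'⟩ := (Scheme.homeoOfIso (asIso (Curv2.bcFst k Z k))).surjective w
      have hw'' : w' ⤳ z' := by
        rw [← (Scheme.homeoOfIso (asIso (Curv2.bcFst k Z k))).isInducing.specializes_iff, hw', hz']
        exact hw
      have hsk := h2 w' hw''
      obtain ⟨h1, h3⟩ := depth_dim_bcFst k w'
      rw [Groth.Ega4b.SkLoc, h1, h3] at hsk
      rw [← hw']
      exact hsk
    · haveI := hN K
      exact ((normal_stalk_iff z').1 (h K hK z' hz')).1
  · rintro ⟨hS, hR⟩ K _ _ hK z' rfl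
    haveI := hN K
    exact (normal_stalk_iff z').2 ⟨hasRk_bcFst K 1 z' hR, hasSk_bcFst K 2 z' hS⟩

end Groth.Ega43Geom
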