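import Mathlib
import Groth.Agent.Ega43Geom.Pointwise
import Groth.Agent.Ega43FP2.AssFibre
import Groth.Agent.CMMor.SmoothFibre

/-!
# Openness of the loci of geometrically reduced, normal fibres
-/

set_option autoImplicit false
set_option linter.style.haveILetI false
universe u

open CategoryTheory CategoryTheory.Limits AlgebraicGeometry IsLocalRing

set_option synthInstance.maxHeartbeats 400000
set_option maxHeartbeats 1600000

namespace Groth.Ega43Geom

variable {X Y : Scheme.{u}} (f : X ⟶ Y)

/-- Generizations of codimension `≤ m` in the fibre are smooth points of the fibre. -/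
def FibSmoothUpTo [LocallyOfFinitePresentation f] (m : ℕ) (y : Y) (z : f.fiber y) : Prop :=
  ∀ w : f.fiber y, w ⤳ z → ringKrullDim ((f.fiber y).presheaf.stalk w) ≤ m →
    w ∈ (f.fiberToSpecResidueField y).smoothLocus

variable [LocallyOfFinitePresentation f]

theorem fibSmoothUpTo_iff (m : ℕ) (y : Y) (z : f.fiber y) :
    FibSmoothUpTo f m y z ↔
      letI : (f.fiber y).Over (Spec (CommRingCat.of (Y.residueField y))) := ⟨f.fiberToSpecResidueField y⟩
      haveI : LocallyOfFinitePresentation ((f.fiber y) ↘ Spec (CommRingCat.of (Y.residueField y))) :=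
        inferInstanceAs (LocallyOfFinitePresentation (f.fiberToSpecResidueField y))
      SmoothUpTo (Y.residueField y) m z :=
  Iff.rfl

theorem mem_smoothLocus_fibre_iff (y : Y) (z : f.fiber y) (hflat : (f.stalkMap (f.fiberι y z)).hom.Flat) :
    f.fiberι y z ∈ f.smoothLocus ↔ z ∈ (f.fiberToSpecResidueField y).smoothLocus := by
  rw [← Groth.CMMor.isSmoothFibreAt_iff]
  exact ⟨Groth.CMMor.isSmoothFibreAt_of_mem_smoothLocus f _,
    fun h => Groth.PropsBasic.Loci.mem_smoothLocus_of_fiber hflat h⟩

/-- The points where `f` is flat and the fibre is `(S_{m+1})` and smooth in codimension `≤ m`. -/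
theorem isOpen_flatAt_hasSk_smoothUpTo (m : ℕ) : IsOpen {x : X | (f.stalkMap x).hom.Flat ∧
    LocCoh.HasSk (m + 1) ((f.fiber (f.base x)).presheaf.stalk (f.asFiber x)) ((f.fiber (f.base x)).presheaf.stalk (f.asFiber x)) ∧
    FibSmoothUpTo f m _ (f.asFiber x)} := by
  let U : X.Opens := ⟨_, Groth.CMMor.isOpen_flatAt f⟩
  let F := Coh.structureModule X
  have hflat : ∀ x ∈ U, FlatMod.IsFlatOverAt f F x := fun x hx =>
    (Groth.Misc13.FlatBC.flat_stalkMap_iff_structure f x).2 hx
  let D : ℕ → Set X := fun τ => ({x | x ∈ U ∧ ((τ + m + 1 : ℕ) : WithBot ℕ∞) ≤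
      (Groth.Ega43FP2.depthAt f F _ (f.asFiber x) : WithBot ℕ∞) + Groth.Ega43FP2.clDimAt f _ (f.asFiber x)} ∪
    (f.smoothLocus : Set X))ᶜ
  have hD : ∀ τ, IsClosed (D τ) := fun τ =>
    ((Groth.Ega43FP2.isOpen_fibreLocus f F Groth.Ega43FP2.isFP_structureModule U hflat
      (Groth.Ega43FP2.openOverAffine_le_depth_add (τ + m + 1))).union f.smoothLocus.2).isClosed_compl
  convert ((Groth.Ega43FP2.isOpen_flatAt_hasSk f (m + 1)).inter
    (Groth.Ega43FP2.isOpen_forall_not_bad f D hD Set.univ)) using 1
  ext x
  simp only [Set.mem_ofPred_eq, Set.mem_inter_iff, Set.mem_univ, true_implies, and_assoc]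
  refine and_congr_right fun hxU => and_congr_right fun hsk => ?_
  rw [Groth.Ega43FP2.hasSk_stalk_iff] at hsk
  haveI : IsLocallyNoetherian (f.fiber (f.base x)) :=
    LocallyOfFiniteType.isLocallyNoetherian (f.fiberToSpecResidueField (f.base x))
  have hgen : ∀ z : f.fiber (f.base x), z ⤳ f.asFiber x → f.fiberι _ z ∈ U := by
    intro z hz
    refine ((hz.map (f.fiberι _).continuous)).mem_open U.isOpen ?_
    rw [f.fiberι_asFiber]
    exact hxU
  have hmem : ∀ (τ : ℕ) (z : f.fiber (f.base x)), z ⤳ f.asFiber x → (f.fiberι _ z ∈ D τ ↔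
      ¬ ((τ + m + 1 : ℕ) : WithBot ℕ∞) ≤ (LocCoh.depth ((f.fiber (f.base x)).presheaf.stalk z)
        ((f.fiber (f.base x)).presheaf.stalk z) : WithBot ℕ∞) + ((Order.height z : ℕ∞) : WithBot ℕ∞) ∧
        z ∉ (f.fiberToSpecResidueField (f.base x)).smoothLocus) := by
    intro τ z hz
    rw [← (Groth.Ega43FP2.depthAt_suppAt_structure f _ z).1, ← Groth.Ega43FP2.clDimAt_eq f _ z,
      Groth.Ega43FP2.apply_asFiber_eq f F (fun d _ t => ((τ + m + 1 : ℕ) : WithBot ℕ∞) ≤ (d : WithBot ℕ∞) + t) _ z,
      ← mem_smoothLocus_fibre_iff f _ z (hgen z hz)]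
    simp only [D, Set.mem_compl_iff, Set.mem_union, Set.mem_ofPred_eq, not_or, hgen z hz, true_and]
    exact Iff.rfl
  constructor
  · intro h τ z hzD hz hτ
    obtain ⟨hdeep, hns⟩ := (hmem τ z hz).1 hzD
    refine hns (h z hz ?_)
    have hs := hsk z hz
    rw [Groth.Ega4b.SkLoc] at hs
    revert hs hdeep hτ
    generalize ringKrullDim ((f.fiber (f.base x)).presheaf.stalk z) = r
    generalize Order.height z = t
    generalize LocCoh.depth ((f.fiber (f.base x)).presheaf.stalk z) ((f.fiber (f.base x)).presheaf.stalk z) = d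
    intro hτ hdeep hs
    rw [min_le_iff] at hs
    simp only [← WithBot.coe_natCast, ← WithBot.coe_add, WithBot.coe_le_coe] at hdeep hs ⊢
    cases d using ENat.recTopCoe with
    | top => exact absurd (by simp) hdeep
    | coe d =>
      cases t using ENat.recTopCoe with
      | top => exact absurd (by simp) hdeep
      | coe t =>
        have hdm : d ≤ m := by norm_cast at hdeep hτ; omega
        rcases hs with hs | hs
        · norm_cast at hs; omega
        · exact hs.trans (WithBot.coe_le_coe.2 (Nat.cast_le.2 hdm))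
  · intro h z hz hd
    by_contra hns
    obtain ⟨t, ht⟩ := Groth.Ega43FP2.exists_height_eq_nat f _ z
    refine h t z ((hmem t z hz).2 ⟨?_, hns⟩) hz ht.ge
    intro hle
    haveI : IsNoetherianRing ((f.fiber (f.base x)).presheaf.stalk z) := inferInstance
    have h2 := Groth.LocCohBase.depth_le_supportDim (R := (f.fiber (f.base x)).presheaf.stalk z)
      ((f.fiber (f.base x)).presheaf.stalk z)
    rw [Module.supportDim_self_eq_ringKrullDim] at h2
    have h3 := h2.trans hd
    rw [ht] at hle
    revert hle h3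
    generalize LocCoh.depth ((f.fiber (f.base x)).presheaf.stalk z) ((f.fiber (f.base x)).presheaf.stalk z) = d
    simp only [← WithBot.coe_natCast, ← WithBot.coe_add, WithBot.coe_le_coe]
    cases d using ENat.recTopCoe with
    | top => intro _ h; exact absurd h (by simp)
    | coe d => intro h1 h2; norm_cast at h1 h2; omega

theorem geomReducedAt_fibre_iff (y : Y) (z : f.fiber y) :
    FBase.IsGeomReducedAt (f.fiberToSpecResidueField y) z ↔
      LocCoh.HasSk 1 ((f.fiber y).presheaf.stalk z) ((f.fiber y).presheaf.stalk z) ∧ FibSmoothUpTo f 0 y z := by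
  letI : (f.fiber y).Over (Spec (CommRingCat.of (Y.residueField y))) := ⟨f.fiberToSpecResidueField y⟩
  haveI : LocallyOfFinitePresentation ((f.fiber y) ↘ Spec (CommRingCat.of (Y.residueField y))) :=
    inferInstanceAs (LocallyOfFinitePresentation (f.fiberToSpecResidueField y))
  exact geomReducedAt_iff (Y.residueField y) z

theorem geomNormal_fibre_iff (y : Y) (z : f.fiber y) :
    (∀ (K : Type u) [Field K] [Algebra (IsLocalRing.ResidueField (Y.presheaf.stalk y)) K],
        Module.Finite (IsLocalRing.ResidueField (Y.presheaf.stalk y)) K →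
        ∀ x' : ↥(FBase.bc (f.fiberToSpecResidueField y) K),
          (FBase.bcπ (f.fiberToSpecResidueField y) K).base x' = z →
          IsDomain ((FBase.bc (f.fiberToSpecResidueField y) K).presheaf.stalk x') ∧
            IsIntegrallyClosed ((FBase.bc (f.fiberToSpecResidueField y) K).presheaf.stalk x')) ↔
      LocCoh.HasSk 2 ((f.fiber y).presheaf.stalk z) ((f.fiber y).presheaf.stalk z) ∧ FibSmoothUpTo f 1 y z := by
  letI : (f.fiber y).Over (Spec (CommRingCat.of (Y.residueField y))) := ⟨f.fiberToSpecResidueField y⟩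
  haveI : LocallyOfFinitePresentation ((f.fiber y) ↘ Spec (CommRingCat.of (Y.residueField y))) :=
    inferInstanceAs (LocallyOfFinitePresentation (f.fiberToSpecResidueField y))
  exact geomNormal_iff (Y.residueField y) z

theorem geomRk_fibre_iff (m : ℕ) (y : Y) (z : f.fiber y) :
    (∀ (K : Type u) [Field K] [Algebra (IsLocalRing.ResidueField (Y.presheaf.stalk y)) K],
        Module.Finite (IsLocalRing.ResidueField (Y.presheaf.stalk y)) K →
        ∀ x' : ↥(FBase.bc (f.fiberToSpecResidueField y) K),
          (FBase.bcπ (f.fiberToSpecResidueField y) K).base x' = z →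
          LocCoh.HasRk m ((FBase.bc (f.fiberToSpecResidueField y) K).presheaf.stalk x')) ↔
      FibSmoothUpTo f m y z := by
  letI : (f.fiber y).Over (Spec (CommRingCat.of (Y.residueField y))) := ⟨f.fiberToSpecResidueField y⟩
  haveI : LocallyOfFinitePresentation ((f.fiber y) ↘ Spec (CommRingCat.of (Y.residueField y))) :=
    inferInstanceAs (LocallyOfFinitePresentation (f.fiberToSpecResidueField y))
  exact geomRk_iff (Y.residueField y) m z

theorem isOpen_flatAt_geomReduced : IsOpen {x : X | (f.stalkMap x).hom.Flat ∧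
    FBase.IsGeomReducedAt (f.fiberToSpecResidueField (f.base x)) (f.asFiber x)} := by
  convert isOpen_flatAt_hasSk_smoothUpTo f 0 using 1
  ext x
  exact and_congr_right fun _ => geomReducedAt_fibre_iff f _ _

theorem isOpen_flatAt_geomNormal : IsOpen {x : X | (f.stalkMap x).hom.Flat ∧
    ∀ (K : Type u) [Field K] [Algebra (IsLocalRing.ResidueField (Y.presheaf.stalk (f.base x))) K],
      Module.Finite (IsLocalRing.ResidueField (Y.presheaf.stalk (f.base x))) K →
      ∀ x' : ↥(FBase.bc (f.fiberToSpecResidueField (f.base x)) K),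
        (FBase.bcπ (f.fiberToSpecResidueField (f.base x)) K).base x' = f.asFiber x →
        IsDomain ((FBase.bc (f.fiberToSpecResidueField (f.base x)) K).presheaf.stalk x') ∧
          IsIntegrallyClosed ((FBase.bc (f.fiberToSpecResidueField (f.base x)) K).presheaf.stalk x')} := by
  convert isOpen_flatAt_hasSk_smoothUpTo f 1 using 1
  ext x
  exact and_congr_right fun _ => geomNormal_fibre_iff f _ _

end Groth.Ega43Geom
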