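import Mathlib
import Groth.Agent.Ega43FP2.SkConstructible

/-!
# Generizations of large dimension in the fibres of affine space

For a constructible `E` in affine space over a ring `A`, the points having a generization in their fibre which
lies in `E` and has residual transcendence degree at least `τ` form a constructible set.
-/

set_option autoImplicit false
set_option linter.style.haveILetI false
universe u

open CategoryTheory AlgebraicGeometry Topology
open scoped TensorProduct

set_option synthInstance.maxHeartbeats 400000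
set_option maxHeartbeats 1600000

attribute [local instance] MvPolynomial.algebraMvPolynomial

namespace Groth.Ega43Geom

open Groth.Ega43FP2

variable {A : Type u} [CommRing A] {n : ℕ}

/-- The points with a generization in their fibre which is in `E` and of transcendence degree `≥ τ`. -/
def htLocus (A : Type u) [CommRing A] (n : ℕ) (E : Set (PrimeSpectrum (MvPolynomial (Fin n) A))) (τ : ℕ) :
    Set (PrimeSpectrum (MvPolynomial (Fin n) A)) :=
  {P | ∃ Q ∈ E, Q ≤ P ∧ Q.asIdeal.under A = P.asIdeal.under A ∧ τ ≤ fibTr Q}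

theorem htLocus_iUnion {ι : Type*} (E : ι → Set (PrimeSpectrum (MvPolynomial (Fin n) A))) (τ : ℕ) :
    htLocus A n (⋃ i, E i) τ = ⋃ i, htLocus A n (E i) τ := by
  ext P
  simp only [htLocus, Set.mem_ofPred_eq, Set.mem_iUnion]
  exact ⟨fun ⟨Q, ⟨i, hi⟩, h⟩ => ⟨i, Q, hi, h⟩, fun ⟨i, Q, hi, h⟩ => ⟨Q, ⟨i, hi⟩, h⟩⟩

theorem preimage_htLocus (A' : Type u) [CommRing A'] [Algebra A A']
    (E : Set (PrimeSpectrum (MvPolynomial (Fin n) A))) (τ : ℕ) :
    PrimeSpectrum.comap (algebraMap (MvPolynomial (Fin n) A) (MvPolynomial (Fin n) A')) ⁻¹' htLocus A n E τ =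
      htLocus A' n (PrimeSpectrum.comap (algebraMap (MvPolynomial (Fin n) A) (MvPolynomial (Fin n) A')) ⁻¹' E) τ := by
  let B := MvPolynomial (Fin n) A
  let B' := MvPolynomial (Fin n) A'
  let σ := algebraMap B B'
  have hdef := fun Q' Q hQ => exists_defect B B' (TensorProduct.AlgebraTensorModule.rid B B' B') Q' Q hQ
  ext P'
  constructor
  · rintro ⟨Q, hQE, hQP, hu, hτ⟩
    obtain ⟨Q', hQ', hu', hQQ', hmin⟩ := exists_minimal_lift P' _ Q rfl hQP hu
    obtain ⟨δ, hh, -, hδ⟩ := hdef Q' Q hQQ'
    refine ⟨Q', show PrimeSpectrum.comap σ Q' ∈ E from hQQ' ▸ hQE, hQ', hu', ?_⟩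
    simp only [fibTr] at hτ ⊢
    rw [hh, hδ hmin]
    exact hτ
  · rintro ⟨Q', hQE, hQ', hu', hτ⟩
    obtain ⟨δ, hh, -, -⟩ := hdef Q' (PrimeSpectrum.comap σ Q') rfl
    refine ⟨PrimeSpectrum.comap σ Q', hQE, Ideal.comap_mono hQ', ?_, ?_⟩
    · have hσ : ∀ a, σ (algebraMap A B a) = algebraMap A' B' (algebraMap A A' a) := fun a => by
        show algebraMap B B' (MvPolynomial.C a) = MvPolynomial.C _
        rw [MvPolynomial.algebraMap_def, MvPolynomial.map_C]
      ext a
      show σ (algebraMap A B a) ∈ Q'.asIdeal ↔ σ (algebraMap A B a) ∈ P'.asIdeal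
      rw [hσ]
      exact SetLike.ext_iff.1 hu' (algebraMap A A' a)
    · have := fibHt_le Q'
      simp only [fibTr] at hτ ⊢
      omega

theorem isClosed_htLocus {E : Set (PrimeSpectrum (MvPolynomial (Fin n) A))} (hE : IsClosed E) (τ : ℕ) :
    IsClosed (htLocus A n E τ) := by
  let Y := Spec (CommRingCat.of A)
  let A' : Type u := Γ(Y, ⊤)
  let ι : A →+* A' := (Scheme.ΓSpecIso (CommRingCat.of A)).inv.hom
  letI : Algebra A A' := ι.toAlgebra
  let B := MvPolynomial (Fin n) A
  let B' := MvPolynomial (Fin n) A'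
  have hbij : Function.Bijective (algebraMap B B') := by
    rw [MvPolynomial.algebraMap_def]
    have := ConcreteCategory.bijective_of_isIso (Scheme.ΓSpecIso (CommRingCat.of A)).inv
    exact ⟨MvPolynomial.map_injective _ this.1, MvPolynomial.map_surjective _ this.2⟩
  have h : IsClosed (htLocus A' n (PrimeSpectrum.comap (algebraMap B B') ⁻¹' E) τ) :=
    isClosed_exists_le_fibTr (isAffineOpen_top Y) (hE.preimage (PrimeSpectrum.continuous_comap _)) τ
  rw [← preimage_htLocus] at h
  exact ((PrimeSpectrum.isHomeomorph_comap_of_bijective hbij).isQuotientMap.isClosed_preimage).1 h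

theorem fibTr_le_of_le {Q Q'' : PrimeSpectrum (MvPolynomial (Fin n) A)} (hle : Q'' ≤ Q)
    (hu : Q''.asIdeal.under A = Q.asIdeal.under A) : fibTr Q ≤ fibTr Q'' := by
  let B := MvPolynomial (Fin n) A
  have key : ∀ c : PrimeSpectrum (FibRing Q'' A), ∃ q : PrimeSpectrum (FibRing Q A),
      q.asIdeal.comap (algebraMap B (FibRing Q A)) = c.asIdeal.comap (algebraMap B (FibRing Q'' A)) := by
    intro c
    let C : PrimeSpectrum B := PrimeSpectrum.comap (algebraMap B (FibRing Q'' A)) c
    have hC : C ≤ Q'' := fun b hb => by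
      by_contra hbQ
      exact c.2.ne_top (Ideal.eq_top_of_isUnit_mem _ hb
        ((IsLocalization.map_units (Localization.AtPrime Q''.asIdeal) (⟨b, hbQ⟩ : Q''.asIdeal.primeCompl)).map
          (Ideal.Quotient.mk _)))
    have hCu : C.asIdeal.under A = Q.asIdeal.under A := by
      rw [← hu]
      refine le_antisymm (Ideal.comap_mono hC) fun a ha => ?_
      show algebraMap B (FibRing Q'' A) (algebraMap A B a) ∈ c.asIdeal
      have h0 : algebraMap B (FibRing Q'' A) (algebraMap A B a) = 0 := Ideal.Quotient.eq_zero_iff_mem.2 (by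
        have h := Ideal.mem_map_of_mem (algebraMap A (Localization.AtPrime Q''.asIdeal)) ha
        rwa [IsScalarTower.algebraMap_apply A B (Localization.AtPrime Q''.asIdeal)] at h)
      rw [h0]
      exact c.asIdeal.zero_mem
    obtain ⟨q, hq, hqC⟩ := exists_prime_fibRing Q C (hC.trans hle) hCu
    exact ⟨⟨q, hq⟩, hqC⟩
  choose j hj using key
  have hmono : StrictMono j := by
    intro c d hcd
    have h1 : (j c).asIdeal ≤ (j d).asIdeal := le_of_comap_le_fibRing (by rw [hj, hj]; exact Ideal.comap_mono hcd.le)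
    refine lt_of_le_of_ne h1 fun he => hcd.ne (PrimeSpectrum.ext (le_antisymm hcd.le (le_of_comap_le_fibRing ?_)))
    rw [← hj c, ← hj d, he]
  have h := Order.krullDim_le_of_strictMono j hmono
  change ringKrullDim (FibRing Q'' A) ≤ ringKrullDim (FibRing Q A) at h
  rw [ringKrullDim_fibRing, ringKrullDim_fibRing] at h
  have h' : fibHt Q'' ≤ fibHt Q := by exact_mod_cast h
  simp only [fibTr]
  omega

/-- Injectivity after tensoring with an algebra over a flat localization where the cokernel is flat. -/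
theorem injective_lTensor_of_flat_baseChange {R : Type u} [CommRing R] (S : Type u) [CommRing S] [Algebra R S]
    [Module.Flat R S] (k : Type u) [CommRing k] [Algebra R k] [Algebra S k] [IsScalarTower R S k]
    {M N : Type u} [AddCommGroup M] [Module R M] [AddCommGroup N] [Module R N]
    (g : M →ₗ[R] M) (π : M →ₗ[R] N) (hg : Function.Injective g) (hπ : Function.Surjective π)
    (hex : Function.Exact g π) [Module.Flat S (S ⊗[R] N)] : Function.Injective (g.lTensor k) := by
  have hgS : Function.Injective (g.baseChange S) := by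
    rw [LinearMap.baseChange_eq_ltensor]
    exact Module.Flat.lTensor_preserves_injective_linearMap g hg
  have hexS : Function.Exact (g.baseChange S) (π.baseChange S) := by
    rw [LinearMap.baseChange_eq_ltensor, LinearMap.baseChange_eq_ltensor]
    exact lTensor_exact S hex hπ
  have hπS : Function.Surjective (π.baseChange S) := by
    rw [LinearMap.baseChange_eq_ltensor]
    exact LinearMap.lTensor_surjective S hπ
  have h := LinearMap.lTensor_injective_of_exact_of_flat (π.baseChange S) hπS (g.baseChange S) hgS hexS k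
  let e := TensorProduct.AlgebraTensorModule.cancelBaseChange R S k k M
  have hcomm : ∀ x, g.lTensor k (e x) = e ((g.baseChange S).lTensor k x) := by
    intro x
    induction x using TensorProduct.induction_on with
    | zero => simp
    | add x y hx hy => simp only [map_add, hx, hy]
    | tmul c y =>
      induction y using TensorProduct.induction_on with
      | zero => simp
      | add y z hy hz => simp only [TensorProduct.tmul_add, map_add, hy, hz]
      | tmul s m => simp [e, TensorProduct.AlgebraTensorModule.cancelBaseChange_tmul]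
  intro x y hxy
  obtain ⟨x, rfl⟩ := e.surjective x
  obtain ⟨y, rfl⟩ := e.surjective y
  rw [hcomm, hcomm, e.injective.eq_iff] at hxy
  rw [h hxy]

/-- A point of `V(J)` has a generization in its fibre inside `V(J)` off `V(f)`, if `f` is a nonzerodivisor on the fibre. -/
theorem exists_generization_notMem {B : Type u} [CommRing B] [Algebra A B] (J : Ideal B) (f : B)
    (Q : PrimeSpectrum B) (hQ : J ≤ Q.asIdeal)
    (hinj : Function.Injective ((LinearMap.mulLeft A (Ideal.Quotient.mk J f)).lTensor
      (Q.asIdeal.under A).ResidueField)) :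
    ∃ Q'' : PrimeSpectrum B, Q'' ≤ Q ∧ Q''.asIdeal.under A = Q.asIdeal.under A ∧ J ≤ Q''.asIdeal ∧
      f ∉ Q''.asIdeal := by
  let q := Q.asIdeal.under A
  let k := q.ResidueField
  let R := k ⊗[A] (B ⧸ J)
  let K := Q.asIdeal.ResidueField
  let ρ : k →ₐ[A] K :=
    { Ideal.ResidueField.lift q (algebraMap A K)
        (fun a ha => RingHom.mem_ker.2 (by
          rw [IsScalarTower.algebraMap_apply A B K, Ideal.algebraMap_residueField_eq_zero]; exact ha))
        (fun a ha => by
          show IsUnit (algebraMap A K a)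
          rw [isUnit_iff_ne_zero, IsScalarTower.algebraMap_apply A B K, ne_eq, Ideal.algebraMap_residueField_eq_zero]
          exact ha) with
      commutes' := fun a => Ideal.ResidueField.lift_algebraMap _ _ _ _ a }
  let γ : B ⧸ J →ₐ[A] K := Ideal.Quotient.liftₐ J (IsScalarTower.toAlgHom A B K) fun b hb => by
    show algebraMap B K b = 0
    rw [Ideal.algebraMap_residueField_eq_zero]
    exact hQ hb
  let χ : R →ₐ[A] K := Algebra.TensorProduct.productMap ρ γ
  haveI : (RingHom.ker χ.toRingHom).IsPrime := RingHom.ker_isPrime _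
  obtain ⟨q'', hq'', hle⟩ := Ideal.exists_minimalPrimes_le (I := (⊥ : Ideal R)) (J := RingHom.ker χ.toRingHom) bot_le
  haveI := hq''.1.1
  let ι : B →+* R := (Algebra.TensorProduct.includeRight (R := A) (A := k) (B := B ⧸ J)).toRingHom.comp
    (Ideal.Quotient.mk J)
  have hnzd : ι f ∈ nonZeroDivisors R := by
    rw [mem_nonZeroDivisors_iff_left]
    intro x hx
    have : ∀ y : R, ι f * y = (LinearMap.mulLeft A (Ideal.Quotient.mk J f)).lTensor k y := by
      intro y
      induction y using TensorProduct.induction_on with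
      | zero => simp
      | add y z hy hz => simp only [mul_add, map_add, hy, hz]
      | tmul c m =>
        show (1 : k) ⊗ₜ[A] Ideal.Quotient.mk J f * c ⊗ₜ[A] m = c ⊗ₜ[A] (Ideal.Quotient.mk J f * m)
        rw [Algebra.TensorProduct.tmul_mul_tmul, one_mul]
    rw [this] at hx
    exact hinj (by rw [hx, map_zero])
  refine ⟨⟨q''.comap ι, inferInstance⟩, fun b hb => ?_, ?_, fun b hb => ?_, fun hf => ?_⟩
  · have h : χ (ι b) = 0 := hle hb
    simp only [ι, χ, RingHom.comp_apply] at h
    change Algebra.TensorProduct.productMap ρ γ (1 ⊗ₜ[A] Ideal.Quotient.mk J b) = 0 at h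
    rw [Algebra.TensorProduct.productMap_apply_tmul, map_one, one_mul] at h
    change algebraMap B K b = 0 at h
    exact Ideal.algebraMap_residueField_eq_zero.1 h
  · ext a
    show ι (algebraMap A B a) ∈ q'' ↔ a ∈ q
    have hι : ι (algebraMap A B a) = algebraMap A k a ⊗ₜ[A] (1 : B ⧸ J) :=
      ((Algebra.TensorProduct.includeRight (R := A) (A := k) (B := B ⧸ J)).commutes a).trans
        (Algebra.TensorProduct.algebraMap_apply a)
    rw [hι]
    constructor
    · intro h
      by_contra ha
      have hu : IsUnit (algebraMap A k a) := by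
        rw [isUnit_iff_ne_zero, ne_eq, Ideal.algebraMap_residueField_eq_zero]; exact ha
      exact Ideal.IsPrime.ne_top inferInstance (Ideal.eq_top_of_isUnit_mem _ h
        (hu.map (Algebra.TensorProduct.includeLeftRingHom (R := A) (A := k) (B := B ⧸ J))))
    · intro h
      rw [Ideal.algebraMap_residueField_eq_zero.2 h, TensorProduct.zero_tmul]
      exact q''.zero_mem
  · show ι b ∈ q''
    simp only [ι, RingHom.comp_apply, Ideal.Quotient.eq_zero_iff_mem.2 hb, map_zero]
    exact q''.zero_mem
  · exact Set.disjoint_left.1 (Ideal.disjoint_nonZeroDivisors_of_mem_minimalPrimes hq'') hf hnzd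

/-- Over a noetherian domain, the locus agrees with a closed set on a nonempty open of the base. -/
theorem exists_closed_eq_htLocus [IsNoetherianRing A] [IsDomain A] (s : Set (MvPolynomial (Fin n) A))
    (f : MvPolynomial (Fin n) A) (τ : ℕ) :
    ∃ a : A, a ≠ 0 ∧ ∃ F : Set (PrimeSpectrum (MvPolynomial (Fin n) A)), IsClosed F ∧
      ∀ P : PrimeSpectrum (MvPolynomial (Fin n) A), a ∉ P.asIdeal.under A →
        (P ∈ htLocus A n (PrimeSpectrum.zeroLocus s \ PrimeSpectrum.zeroLocus {f}) τ ↔ P ∈ F) := by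
  let B := MvPolynomial (Fin n) A
  let I : Ideal B := Ideal.span s
  let Bf := Localization.Away f
  let J : Ideal B := (I.map (algebraMap B Bf)).comap (algebraMap B Bf)
  have hunit : IsUnit (algebraMap B Bf f) := IsLocalization.Away.algebraMap_isUnit f
  let g : B ⧸ J →ₗ[A] B ⧸ J := LinearMap.mulLeft A (Ideal.Quotient.mk J f)
  have hg : Function.Injective g := by
    rw [← LinearMap.ker_eq_bot, LinearMap.ker_eq_bot']
    intro x hx
    obtain ⟨x, rfl⟩ := Ideal.Quotient.mk_surjective x
    rw [LinearMap.mulLeft_apply, ← map_mul, Ideal.Quotient.eq_zero_iff_mem, Ideal.mem_comap, map_mul] at hx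
    rw [Ideal.Quotient.eq_zero_iff_mem, Ideal.mem_comap]
    exact (Ideal.unit_mul_mem_iff_mem _ hunit).1 hx
  let N := B ⧸ (J ⊔ Ideal.span {f})
  let π : B ⧸ J →ₗ[A] N := (Ideal.Quotient.factorₐ A (le_sup_left : J ≤ J ⊔ Ideal.span {f})).toLinearMap
  have hπ : Function.Surjective π := Ideal.Quotient.factor_surjective (le_sup_left : J ≤ J ⊔ Ideal.span {f})
  have hex : Function.Exact g π := by
    intro x
    obtain ⟨x, rfl⟩ := Ideal.Quotient.mk_surjective x
    show Ideal.Quotient.mk (J ⊔ Ideal.span {f}) x = 0 ↔ _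
    rw [Ideal.Quotient.eq_zero_iff_mem, Submodule.mem_sup]
    constructor
    · rintro ⟨j, hj, y, hy, rfl⟩
      obtain ⟨c, rfl⟩ := Ideal.mem_span_singleton'.1 hy
      refine ⟨Ideal.Quotient.mk J c, ?_⟩
      rw [LinearMap.mulLeft_apply, map_add, Ideal.Quotient.eq_zero_iff_mem.2 hj, zero_add, ← map_mul, mul_comm f]
    · rintro ⟨y, hy⟩
      obtain ⟨y, rfl⟩ := Ideal.Quotient.mk_surjective y
      rw [LinearMap.mulLeft_apply, ← map_mul, Ideal.Quotient.eq] at hy
      exact ⟨x - f * y, by simpa using J.neg_mem hy, f * y, Ideal.mem_span_singleton'.2 ⟨y, mul_comm _ _⟩, by ring⟩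
  obtain ⟨a, ha, hflat⟩ := Groth.FlatMorOne.exists_notMem_algStratFlat (M := N) B (⊥ : Ideal A)
    (Ideal.isPrime_bot.isRadical) (Ideal.IsPrime.ne_top Ideal.isPrime_bot)
  let Aa := Localization.Away a
  haveI : Module.Flat A Aa := IsLocalization.flat Aa (Submonoid.powers a)
  haveI : Module.Flat Aa (Aa ⊗[A] N) := by
    refine hflat Aa Ideal.map_bot ?_
    exact Ideal.eq_top_of_isUnit_mem _ (Ideal.mem_map_of_mem _ (Ideal.mem_sup_right (Ideal.mem_span_singleton_self a)))
      (IsLocalization.Away.algebraMap_isUnit a)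
  refine ⟨a, fun h => ha (by rw [h]; exact Ideal.zero_mem _), htLocus A n (PrimeSpectrum.zeroLocus (J : Set B)) τ,
    isClosed_htLocus (PrimeSpectrum.isClosed_zeroLocus _) τ, fun P hP => ?_⟩
  constructor
  · rintro ⟨Q, ⟨hQs, hQf⟩, hQP, hu, hτ⟩
    refine ⟨Q, fun b hb => ?_, hQP, hu, hτ⟩
    have hQf' : f ∉ Q.asIdeal := fun h => hQf (Set.singleton_subset_iff.2 h)
    have hd : Disjoint (Submonoid.powers f : Set B) Q.asIdeal := by
      rw [Ideal.disjoint_powers_iff_notMem _ Q.2.isRadical]
      exact hQf'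
    rw [SetLike.mem_coe, ← IsLocalization.under_map_of_isPrime_disjoint (Submonoid.powers f) Bf Q.2 hd]
    exact Ideal.mem_comap.2 (Ideal.map_mono (Ideal.span_le.2 hQs) hb)
  · rintro ⟨Q, hQJ, hQP, hu, hτ⟩
    have hJQ : J ≤ Q.asIdeal := hQJ
    let k := (Q.asIdeal.under A).ResidueField
    have hak : IsUnit (algebraMap A k a) := by
      rw [isUnit_iff_ne_zero, ne_eq, Ideal.algebraMap_residueField_eq_zero, hu]; exact hP
    letI : Algebra Aa k := (IsLocalization.Away.lift a hak).toAlgebra
    haveI : IsScalarTower A Aa k := IsScalarTower.of_algebraMap_eq fun x => (IsLocalization.Away.lift_eq a hak x).symm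
    obtain ⟨Q'', hle, hu'', hJ'', hf''⟩ := exists_generization_notMem J f Q hJQ
      (injective_lTensor_of_flat_baseChange Aa k g π hg hπ hex)
    refine ⟨Q'', ⟨fun b hb => hJ'' ?_, fun h => hf'' (h rfl)⟩, hle.trans hQP, hu''.trans hu,
      hτ.trans (fibTr_le_of_le hle hu'')⟩
    exact Ideal.le_comap_map (Ideal.subset_span hb)

theorem isConstructible_htLocus_basic [IsNoetherianRing A] (C : PrimeSpectrum.BasicConstructibleSetData (MvPolynomial (Fin n) A))
    (τ : ℕ) : IsConstructible (htLocus A n C.toSet τ) := by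
  refine Groth.SpectralTopology.isConstructible_of_forall_irreducible fun Z hZ hirr => ?_
  obtain ⟨ζ, hζ⟩ := QuasiSober.sober hirr hZ
  have hζZ : ζ ∈ Z := hζ.def ▸ subset_closure rfl
  let p := ζ.asIdeal.under A
  let Ab := A ⧸ p
  let B := MvPolynomial (Fin n) A
  let Bb := MvPolynomial (Fin n) Ab
  let σ := algebraMap B Bb
  have hσsurj : Function.Surjective σ := by
    rw [show σ = _ from MvPolynomial.algebraMap_def]
    exact MvPolynomial.map_surjective _ Ideal.Quotient.mk_surjective
  obtain ⟨a, ha, F, hF, hFeq⟩ := exists_closed_eq_htLocus (A := Ab) (n := n) (Set.range (C.map σ).g) (C.map σ).f τ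
  obtain ⟨a, rfl⟩ := Ideal.Quotient.mk_surjective a
  let D : Set (PrimeSpectrum B) := PrimeSpectrum.basicOpen (algebraMap A B a)
  have hD : IsOpen D := PrimeSpectrum.isOpen_basicOpen
  let G : Set (PrimeSpectrum B) := PrimeSpectrum.comap σ '' F
  have hemb := PrimeSpectrum.isClosedEmbedding_comap_of_surjective _ σ hσsurj
  have hmem : ∀ P ∈ Z, P ∈ D → (P ∈ htLocus A n C.toSet τ ↔ P ∈ G) := by
    intro P hP hPD
    obtain ⟨P', rfl⟩ : P ∈ Set.range (PrimeSpectrum.comap σ) := by
      rw [range_comap_of_surjective _ _ hσsurj]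
      intro b hb
      have hker : RingHom.ker σ = p.map (algebraMap A B) := by
        rw [show σ = _ from MvPolynomial.algebraMap_def, MvPolynomial.ker_map, Ideal.Quotient.algebraMap_eq,
          Ideal.mk_ker]
        rfl
      have hle : ζ.asIdeal ≤ P.asIdeal := (PrimeSpectrum.le_iff_specializes _ _).2 (hζ.specializes hP)
      exact hle (Ideal.map_comap_le ((hker ▸ hb : b ∈ p.map (algebraMap A B))))
    show _ ↔ PrimeSpectrum.comap σ P' ∈ PrimeSpectrum.comap σ '' F
    rw [hemb.injective.mem_set_image, ← hFeq P' ?_]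
    · show P' ∈ PrimeSpectrum.comap σ ⁻¹' htLocus A n C.toSet τ ↔ _
      rw [preimage_htLocus, ← PrimeSpectrum.BasicConstructibleSetData.toSet_map]
      rfl
    · intro h
      refine hPD ?_
      show σ (algebraMap A B a) ∈ P'.asIdeal
      rw [show σ (algebraMap A B a) = algebraMap Ab Bb (Ideal.Quotient.mk p a) by
        show algebraMap B Bb (MvPolynomial.C a) = MvPolynomial.C _
        rw [MvPolynomial.algebraMap_def, MvPolynomial.map_C]
        rfl]
      exact h
  have hζD : ζ ∈ D := fun h => ha (Ideal.Quotient.eq_zero_iff_mem.2 h)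
  by_cases hE : ζ ∈ G
  · exact Or.inr ⟨D, hD, ⟨ζ, hζD, hζZ⟩, fun P hP =>
      (hmem P hP.2 hP.1).2 ((hζ.specializes hP.2).mem_closed (hemb.isClosedMap _ hF) hE)⟩
  · left
    rw [IsNowhereDense, Set.eq_empty_iff_forall_notMem]
    intro z hz
    obtain ⟨V, hVsub, hV, hzV⟩ := mem_interior.1 hz
    obtain ⟨V', hV', rfl⟩ := isOpen_induced_iff.1 hV
    have hO : IsOpen (D ∩ Gᶜ) := hD.inter (hemb.isClosedMap _ hF).isOpen_compl
    have hζV : ζ ∈ V' := (hζ.specializes z.2).mem_open hV' hzV
    obtain ⟨w, hwO, hw⟩ := mem_closure_iff.1 (hVsub (show (⟨ζ, hζZ⟩ : Z) ∈ Subtype.val ⁻¹' V' from hζV))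
      (Subtype.val ⁻¹' (D ∩ Gᶜ)) (hO.preimage continuous_subtype_val) ⟨hζD, hE⟩
    exact hwO.2 ((hmem w.1 w.2 hwO.1).1 hw)

/-- Constructibility over an arbitrary ring. -/
theorem isConstructible_htLocus {E : Set (PrimeSpectrum (MvPolynomial (Fin n) A))} (hE : IsConstructible E)
    (τ : ℕ) : IsConstructible (htLocus A n E τ) := by
  classical
  obtain ⟨S, rfl⟩ := PrimeSpectrum.exists_constructibleSetData_iff.mpr hE
  have hU : S.toSet = ⋃ C : {C // C ∈ S}, C.1.toSet := by
    ext P
    simp [PrimeSpectrum.ConstructibleSetData.toSet]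
  rw [hU, htLocus_iUnion]
  refine IsConstructible.iUnion fun ⟨C, _⟩ => ?_
  let coe : Set A := (C.f.coeffs : Set A) ∪ ⋃ i : Fin C.n, ((C.g i).coeffs : Set A)
  have hfin : coe.Finite := (Finset.finite_toSet _).union (Set.finite_iUnion fun i => Finset.finite_toSet _)
  let A₀ : Subalgebra ℤ A := Algebra.adjoin ℤ coe
  haveI : Algebra.FiniteType ℤ A₀ := .adjoin_of_finite hfin
  haveI : IsNoetherianRing A₀ := Algebra.FiniteType.isNoetherianRing ℤ A₀
  let B := MvPolynomial (Fin n) A
  let B₀ := MvPolynomial (Fin n) A₀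
  have hrange : ∀ b : B, (↑b.coeffs : Set A) ⊆ coe → ∃ b₀ : B₀, algebraMap B₀ B b₀ = b := by
    intro b hb
    have : b ∈ Set.range (MvPolynomial.map (algebraMap A₀ A)) := by
      rw [MvPolynomial.mem_range_map_iff_coeffs_subset]
      exact fun x hx => ⟨⟨x, Algebra.subset_adjoin (hb hx)⟩, rfl⟩
    exact this
  obtain ⟨f₀, hf₀⟩ := hrange C.f Set.subset_union_left
  choose g₀ hg₀ using fun i => hrange (C.g i) (Set.subset_union_of_subset_right (Set.subset_iUnion (fun i : Fin C.n => ((C.g i).coeffs : Set A)) i) _)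
  let C₀ : PrimeSpectrum.BasicConstructibleSetData B₀ := ⟨f₀, C.n, g₀⟩
  have hC : C₀.map (algebraMap B₀ B) = C := by
    obtain ⟨cf, cn, cg⟩ := C
    exact PrimeSpectrum.BasicConstructibleSetData.ext hf₀ rfl (heq_of_eq (funext hg₀))
  have h := (AlgebraicGeometry.Spec.map (CommRingCat.ofHom (algebraMap B₀ B))).isConstructible_preimage
    (isConstructible_htLocus_basic C₀ τ)
  show IsConstructible (htLocus A n C.toSet τ)
  rw [← hC, PrimeSpectrum.BasicConstructibleSetData.toSet_map, ← preimage_htLocus]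
  exact h

end Groth.Ega43Geom
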