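import Mathlib
import Groth.Agent.Ega43Geom.HtLocus
import Groth.Agent.Ega43Geom.Open
import Groth.Agent.Ega43FP2.EquidimFibre
import Groth.Agent.S7599

/-!
# Constructibility of the geometric `(R_m)` and normal loci of the fibres
-/

set_option autoImplicit false
set_option linter.style.haveILetI false
universe u

open CategoryTheory CategoryTheory.Limits AlgebraicGeometry IsLocalRing Topology

set_option synthInstance.maxHeartbeats 400000
set_option maxHeartbeats 1600000

attribute [local instance] MvPolynomial.algebraMvPolynomial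

namespace Groth.Ega43Geom

section Pointwise

variable (k : Type u) [Field k] {Z : Scheme.{u}} [Z.Over (Spec (CommRingCat.of k))]
  [LocallyOfFinitePresentation (Z ↘ Spec (CommRingCat.of k))]

/-- Along any extension of the base field, dimensions of local rings can only grow. -/
theorem ringKrullDim_le_bcFst (K : Type u) [Field K] [Algebra k K] (w : Curv2.bc k Z K) :
    ringKrullDim (Z.presheaf.stalk (Curv2.bcFst k Z K w)) ≤ ringKrullDim ((Curv2.bc k Z K).presheaf.stalk w) := by
  haveI : IsLocallyNoetherian Z := LocallyOfFiniteType.isLocallyNoetherian (Z ↘ Spec (CommRingCat.of k))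
  haveI : LocallyOfFiniteType (Curv2.bcSnd k Z K) := MorphismProperty.pullback_snd _ _ inferInstance
  haveI : IsLocallyNoetherian (Curv2.bc k Z K) := LocallyOfFiniteType.isLocallyNoetherian (Curv2.bcSnd k Z K)
  let A := Z.presheaf.stalk (Curv2.bcFst k Z K w)
  let B := (Curv2.bc k Z K).presheaf.stalk w
  letI : Algebra A B := ((Curv2.bcFst k Z K).stalkMap w).hom.toAlgebra
  haveI : Module.Flat A B := RingHom.flat_algebraMap_iff.1 (Flat.stalkMap (Curv2.bcFst k Z K) w)
  haveI : IsLocalHom (algebraMap A B) := inferInstanceAs (IsLocalHom ((Curv2.bcFst k Z K).stalkMap w).hom)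
  haveI : Nontrivial (B ⧸ (maximalIdeal A).map (algebraMap A B)) := Ideal.Quotient.nontrivial_iff.2
    (ne_top_of_le_ne_top (IsLocalRing.maximalIdeal.isMaximal B).ne_top
      (((IsLocalRing.local_hom_TFAE (algebraMap A B)).out 0 2 rfl rfl).1 inferInstance))
  haveI : IsLocalRing (B ⧸ (maximalIdeal A).map (algebraMap A B)) := .of_surjective' _ Ideal.Quotient.mk_surjective
  show ringKrullDim A ≤ ringKrullDim B
  rw [Groth.Calg4.ringKrullDim_eq_add_of_flat A B]
  exact le_add_of_nonneg_right ringKrullDim_nonneg_of_nontrivial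

variable {k} in
/-- Smoothness in codimension `≤ m` gives `(R_m)` after any field extension. -/
theorem hasRk_bcFst_of_smoothUpTo (m : ℕ) (K : Type u) [Field K] [Algebra k K] (z' : Curv2.bc k Z K)
    (h : SmoothUpTo k m (Curv2.bcFst k Z K z')) : LocCoh.HasRk m ((Curv2.bc k Z K).presheaf.stalk z') := by
  letI : (Curv2.bc k Z K).Over (Spec (CommRingCat.of K)) := ⟨Curv2.bcSnd k Z K⟩
  haveI : LocallyOfFinitePresentation ((Curv2.bc k Z K) ↘ Spec (CommRingCat.of K)) :=
    MorphismProperty.pullback_snd _ _ inferInstance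
  rw [hasRk_stalk_iff]
  intro w hw hd
  refine Groth.VarietyBC.isRegularLocalRing_of_mem_smoothLocus (k := K) ?_
  exact Groth.PropsBasic.Loci.preimage_smoothLocus_le (f' := (Curv2.bc k Z K) ↘ Spec (CommRingCat.of K))
    (IsPullback.of_hasPullback _ _) (h _ (hw.map (Curv2.bcFst k Z K).continuous)
      ((ringKrullDim_le_bcFst k K w).trans hd))

/-- Geometric `(R_m)`, for all field extensions. -/
theorem geomRk_all_iff (m : ℕ) (z : Z) :
    (∀ (K : Type u) [Field K] [Algebra k K] (z' : Curv2.bc k Z K),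
      Curv2.bcFst k Z K z' = z → LocCoh.HasRk m ((Curv2.bc k Z K).presheaf.stalk z')) ↔ SmoothUpTo k m z := by
  refine ⟨fun h => (geomRk_iff k m z).1 fun K _ _ _ => h K, fun h K _ _ z' hz' => ?_⟩
  subst hz'
  exact hasRk_bcFst_of_smoothUpTo m K z' h

/-- Geometric normality, for all field extensions. -/
theorem geomNormal_all_iff (z : Z) :
    (∀ (K : Type u) [Field K] [Algebra k K] (z' : Curv2.bc k Z K),
      Curv2.bcFst k Z K z' = z → IsDomain ((Curv2.bc k Z K).presheaf.stalk z') ∧
        IsIntegrallyClosed ((Curv2.bc k Z K).presheaf.stalk z')) ↔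
      LocCoh.HasSk 2 (Z.presheaf.stalk z) (Z.presheaf.stalk z) ∧ SmoothUpTo k 1 z := by
  rw [← geomNormal_iff k z]
  exact ⟨fun h K _ _ _ => h K, fun h => (Groth.Agent.S7599.result k Z z).1.2 fun K _ _ _ _ => h K inferInstance⟩

end Pointwise

variable {X Y : Scheme.{u}} (f : X ⟶ Y) [LocallyOfFinitePresentation f]

set_option linter.unusedSectionVars false

/-- The points with a generization in their fibre lying in `E` whose closure has dimension `≥ τ`. -/
def htSet (E : Set X) (τ : ℕ) : Set X :=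
  {x | ∃ z : f.fiber (f.base x), z ⤳ f.asFiber x ∧ f.fiberι _ z ∈ E ∧ (τ : ℕ∞) ≤ Order.height z}

theorem mem_htSet_fiberι (E : Set X) (τ : ℕ) (y : Y) (z : f.fiber y) :
    f.fiberι y z ∈ htSet f E τ ↔ ∃ w : f.fiber y, w ⤳ z ∧ f.fiberι y w ∈ E ∧ (τ : ℕ∞) ≤ Order.height w := by
  have key : ∀ (x : X) (y : Y) (z : f.fiber y), f.base x = y → f.fiberι y z = x →
      (x ∈ htSet f E τ ↔ ∃ w : f.fiber y, w ⤳ z ∧ f.fiberι y w ∈ E ∧ (τ : ℕ∞) ≤ Order.height w) := by
    rintro x _ z rfl hz
    obtain rfl : z = f.asFiber x := (f.fiberι _).isEmbedding.injective (hz.trans (f.fiberι_asFiber x).symm)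
    exact Iff.rfl
  exact key _ y z (Groth.FibreDim.apply_fiberι f y z) rfl

theorem isConstructible_preimage_htSet {W : X.Opens} (hW : IsAffineOpen W) {O : Y.Opens} (hO : IsAffineOpen O)
    (hWO : W ≤ f ⁻¹ᵁ O) (E : Set X) (hE : IsConstructible (hW.fromSpec ⁻¹' E)) (τ : ℕ) :
    IsConstructible (hW.fromSpec ⁻¹' htSet f E τ) := by
  let : Algebra Γ(Y, O) Γ(X, W) := (f.appLE O W hWO).hom.toAlgebra
  have : Algebra.FinitePresentation Γ(Y, O) Γ(X, W) := f.finitePresentation_appLE hO hW hWO
  obtain ⟨n, φ, hφ, hker⟩ := Algebra.FinitePresentation.out (R := Γ(Y, O)) (A := Γ(X, W))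
  let B := MvPolynomial (Fin n) Γ(Y, O)
  have hAlg : ∀ a : Γ(Y, O), φ (algebraMap Γ(Y, O) B a) = algebraMap Γ(Y, O) Γ(X, W) a := fun a => φ.commutes a
  let j : PrimeSpectrum Γ(X, W) → PrimeSpectrum B := PrimeSpectrum.comap φ.toRingHom
  have hemb := PrimeSpectrum.isClosedEmbedding_comap_of_surjective _ φ.toRingHom hφ
  have hbase : ∀ v : Spec Γ(X, W), f (hW.fromSpec v) =
      hO.fromSpec (PrimeSpectrum.comap (algebraMap Γ(Y, O) B) (j v) : PrimeSpectrum Γ(Y, O)) := by
    intro v
    rw [← Scheme.Hom.comp_apply, ← IsAffineOpen.SpecMap_appLE_fromSpec f hO hW hWO]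
    show hO.fromSpec (PrimeSpectrum.comap (f.appLE O W hWO).hom v) = _
    refine congrArg _ (PrimeSpectrum.ext (Ideal.ext fun a => ?_))
    show algebraMap Γ(Y, O) Γ(X, W) a ∈ v.asIdeal ↔ φ (algebraMap Γ(Y, O) B a) ∈ v.asIdeal
    rw [hAlg]
  have hjE : IsConstructible (j '' (hW.fromSpec ⁻¹' E)) :=
    PrimeSpectrum.isConstructible_comap_image (RingHom.FinitePresentation.of_surjective _ hφ hker) hE
  convert! (Spec.map (CommRingCat.ofHom φ.toRingHom)).isConstructible_preimage
    (isConstructible_htLocus hjE τ) using 1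
  ext w
  show hW.fromSpec w ∈ htSet f E τ ↔ j w ∈ htLocus Γ(Y, O) n (j '' (hW.fromSpec ⁻¹' E)) τ
  have hxW : hW.fromSpec w ∈ W := hW.range_fromSpec.subset ⟨w, rfl⟩
  have hht : ∀ (y : Y) (z : f.fiber y) (hz : f.fiberι y z ∈ W),
      Order.height z = (Groth.Ega43FP2.fibTr (j (hW.primeIdealOf ⟨_, hz⟩)) : ℕ∞) := fun y z hz =>
    Groth.Ega43FP2.height_eq_fibTr f hO hW hWO φ.toRingHom hφ hAlg y z hz
  constructor
  · rintro ⟨z, hz, hzE, hτ⟩
    have hsp : f.fiberι _ z ⤳ hW.fromSpec w := by
      have := hz.map (f.fiberι _).continuous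
      rwa [f.fiberι_asFiber] at this
    have hzW : f.fiberι _ z ∈ W := hsp.mem_open W.isOpen hxW
    refine ⟨j (hW.primeIdealOf ⟨_, hzW⟩), ⟨_, ?_, rfl⟩, ?_, ?_, ?_⟩
    · show hW.fromSpec (hW.primeIdealOf ⟨_, hzW⟩) ∈ E
      rw [hW.fromSpec_primeIdealOf]
      exact hzE
    · refine (PrimeSpectrum.le_iff_specializes _ _).2
        (((hW.fromSpec.isOpenEmbedding.toIsInducing.specializes_iff).1 ?_).map (PrimeSpectrum.continuous_comap _))
      rw [hW.fromSpec_primeIdealOf]
      exact hsp
    · refine congrArg PrimeSpectrum.asIdeal (hO.fromSpec.isOpenEmbedding.injective (a₁ := (PrimeSpectrum.comap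
        (algebraMap Γ(Y, O) B) (j (hW.primeIdealOf ⟨_, hzW⟩)) : Spec Γ(Y, O)))
        (a₂ := (PrimeSpectrum.comap (algebraMap Γ(Y, O) B) (j w) : Spec Γ(Y, O))) ?_)
      rw [← hbase, ← hbase, hW.fromSpec_primeIdealOf]
      exact Groth.FibreDim.apply_fiberι f _ z
    · rw [hht _ z hzW, Nat.cast_le] at hτ
      exact hτ
  · rintro ⟨_, ⟨v, hvE, rfl⟩, hle, hu, hτ⟩
    have hvw : v ⤳ w := hemb.toIsInducing.specializes_iff.1 ((PrimeSpectrum.le_iff_specializes _ _).1 hle)
    have hf : f (hW.fromSpec v) = f (hW.fromSpec w) := by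
      rw [hbase, hbase]
      exact congrArg _ (PrimeSpectrum.ext hu)
    obtain ⟨z, hz⟩ : hW.fromSpec v ∈ Set.range (f.fiberι (f (hW.fromSpec w))) := (f.range_fiberι _).ge hf
    have hzW : f.fiberι _ z ∈ W := hz ▸ hW.range_fromSpec.subset ⟨v, rfl⟩
    refine ⟨z, ?_, hz.symm ▸ hvE, ?_⟩
    · refine (f.fiberι _).isEmbedding.toIsInducing.specializes_iff.1 ?_
      rw [f.fiberι_asFiber, hz]
      exact hvw.map hW.fromSpec.continuous
    · rw [hht _ z hzW, Nat.cast_le, show hW.primeIdealOf ⟨f.fiberι _ z, hzW⟩ = v from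
        hW.fromSpec.isOpenEmbedding.injective (by rw [hW.fromSpec_primeIdealOf]; exact hz)]
      exact hτ

/-- The dimension of a fibre stalk through the dimensions of the components through the point. -/
theorem ringKrullDim_fibre_stalk_le_iff (y : Y) (z : f.fiber y) {t : ℕ} (ht : Order.height z = (t : ℕ∞)) (m : ℕ) :
    ringKrullDim ((f.fiber y).presheaf.stalk z) ≤ m ↔
      ∀ w : f.fiber y, w ⤳ z → Order.height w ≤ ((m + t : ℕ) : ℕ∞) := by
  let R := (f.fiber y).presheaf.stalk z
  constructor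
  · intro h w hw
    obtain ⟨q, rfl⟩ : w ∈ Set.range ((f.fiber y).fromSpecStalk z).base := by
      rw [Scheme.range_fromSpecStalk]; exact hw
    obtain ⟨b, hb⟩ := Groth.Ega43FP2.exists_height_eq_nat f y ((f.fiber y).fromSpecStalk z q)
    obtain ⟨-, h2⟩ := Groth.Ega43FP2.ringKrullDim_quotient_fibre f y z q ht hb
    have h3 := (ringKrullDim_quotient_le q.asIdeal).trans h
    rw [h2, Nat.cast_le] at h3
    rw [hb, Nat.cast_le]
    omega
  · intro h
    refine iSup_le fun l => ?_
    obtain ⟨b, hb⟩ := Groth.Ega43FP2.exists_height_eq_nat f y ((f.fiber y).fromSpecStalk z (l 0))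
    obtain ⟨-, h2⟩ := Groth.Ega43FP2.ringKrullDim_quotient_fibre f y z (l 0) ht hb
    have hsp : (f.fiber y).fromSpecStalk z (l 0) ⤳ z := by
      have : (f.fiber y).fromSpecStalk z (l 0) ∈ Set.range ((f.fiber y).fromSpecStalk z).base := ⟨_, rfl⟩
      rw [Scheme.range_fromSpecStalk] at this
      exact this
    have hbm := h _ hsp
    rw [hb, Nat.cast_le] at hbm
    refine le_trans ?_ (h2.trans_le (Nat.cast_le.2 (show b - t ≤ m by omega)))
    rw [ringKrullDim_quotient]
    let ψ : LTSeries ↥(PrimeSpectrum.zeroLocus ((l 0).asIdeal : Set R)) :=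
      ⟨l.length, fun i => ⟨l i, fun r hr => (show l 0 ≤ l i from l.monotone (Fin.zero_le i)) hr⟩, fun i => l.step i⟩
    exact Order.LTSeries.length_le_krullDim ψ

theorem isLocallyConstructible_fibSmoothUpTo (m : ℕ) :
    IsLocallyConstructible {x : X | FibSmoothUpTo f m _ (f.asFiber x)} := by
  refine Groth.Ega43FP2.isLocallyConstructible_of_charts f _ fun {W} hW {O} hO hWO => ?_
  obtain ⟨N, hN⟩ := Groth.FibreDim.exists_height_bound_of_affine f hO hW hWO
  let NS : Set X := {x | Groth.CMMor.IsSmoothFibreAt f x}ᶜ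
  have hNS : IsConstructible (hW.fromSpec ⁻¹' NS) := by
    rw [Set.preimage_compl, isConstructible_compl]
    exact ((Groth.CMMor.isLocallyConstructible_smoothFibre f).preimage_of_isOpenEmbedding
      hW.fromSpec.isOpenEmbedding).isConstructible
  let Bad : ℕ → Set X := fun t => htSet f (NS ∩ (htSet f Set.univ (m + t + 1))ᶜ) t
  have hBad : ∀ t, IsConstructible (hW.fromSpec ⁻¹' Bad t) := fun t => by
    refine isConstructible_preimage_htSet f hW hO hWO _ ?_ t
    rw [Set.preimage_inter, Set.preimage_compl]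
    exact hNS.inter (isConstructible_compl.2 (isConstructible_preimage_htSet f hW hO hWO _ (by simp) _))
  have h := IsConstructible.biUnion (Set.finite_Iic N) fun t _ => hBad t
  convert! h.compl using 1
  ext w
  simp only [Set.mem_preimage, Set.mem_ofPred_eq, Set.mem_compl_iff, Set.mem_iUnion, not_exists]
  have hxW : hW.fromSpec w ∈ W := hW.range_fromSpec.subset ⟨w, rfl⟩
  constructor
  · rintro h t - ⟨z, hz, ⟨hzNS, hzdim⟩, hτ⟩
    refine hzNS ((Groth.CMMor.isSmoothFibreAt_iff f _ z).2 (h z hz ?_))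
    obtain ⟨s, hs⟩ := Groth.Ega43FP2.exists_height_eq_nat f _ z
    rw [ringKrullDim_fibre_stalk_le_iff f _ z hs]
    intro v hv
    rw [hs, Nat.cast_le] at hτ
    obtain ⟨b, hb⟩ := Groth.Ega43FP2.exists_height_eq_nat f _ v
    rw [Set.mem_compl_iff, mem_htSet_fiberι] at hzdim
    by_contra hlt
    refine hzdim ⟨v, hv, trivial, ?_⟩
    rw [hb, Nat.cast_le] at hlt ⊢
    omega
  · intro h z hz hd
    by_contra hns
    obtain ⟨t, ht⟩ := Groth.Ega43FP2.exists_height_eq_nat f _ z
    have hzW : f.fiberι _ z ∈ W := by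
      have := hz.map (f.fiberι _).continuous
      rw [f.fiberι_asFiber] at this
      exact this.mem_open W.isOpen hxW
    have htN : t ≤ N := Nat.cast_le.1 (ht ▸ hN _ z hzW)
    refine h t htN ⟨z, hz, ⟨fun hc => hns ((Groth.CMMor.isSmoothFibreAt_iff f _ z).1 hc), ?_⟩, ht.ge⟩
    rw [Set.mem_compl_iff, mem_htSet_fiberι]
    rintro ⟨v, hv, -, hvt⟩
    have := hvt.trans ((ringKrullDim_fibre_stalk_le_iff f _ z ht m).1 hd v hv)
    rw [Nat.cast_le] at this
    omega

theorem geomRk_all_fibre_iff (m : ℕ) (y : Y) (z : f.fiber y) :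
    (∀ (K : Type u) [Field K] [Algebra (IsLocalRing.ResidueField (Y.presheaf.stalk y)) K]
        (x' : ↥(FBase.bc (f.fiberToSpecResidueField y) K)),
          (FBase.bcπ (f.fiberToSpecResidueField y) K).base x' = z →
          LocCoh.HasRk m ((FBase.bc (f.fiberToSpecResidueField y) K).presheaf.stalk x')) ↔
      FibSmoothUpTo f m y z := by
  letI : (f.fiber y).Over (Spec (CommRingCat.of (Y.residueField y))) := ⟨f.fiberToSpecResidueField y⟩
  haveI : LocallyOfFinitePresentation ((f.fiber y) ↘ Spec (CommRingCat.of (Y.residueField y))) :=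
    inferInstanceAs (LocallyOfFinitePresentation (f.fiberToSpecResidueField y))
  exact geomRk_all_iff (Y.residueField y) m z

theorem geomNormal_all_fibre_iff (y : Y) (z : f.fiber y) :
    (∀ (K : Type u) [Field K] [Algebra (IsLocalRing.ResidueField (Y.presheaf.stalk y)) K]
        (x' : ↥(FBase.bc (f.fiberToSpecResidueField y) K)),
          (FBase.bcπ (f.fiberToSpecResidueField y) K).base x' = z →
          IsDomain ((FBase.bc (f.fiberToSpecResidueField y) K).presheaf.stalk x') ∧
            IsIntegrallyClosed ((FBase.bc (f.fiberToSpecResidueField y) K).presheaf.stalk x')) ↔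
      LocCoh.HasSk 2 ((f.fiber y).presheaf.stalk z) ((f.fiber y).presheaf.stalk z) ∧ FibSmoothUpTo f 1 y z := by
  letI : (f.fiber y).Over (Spec (CommRingCat.of (Y.residueField y))) := ⟨f.fiberToSpecResidueField y⟩
  haveI : LocallyOfFinitePresentation ((f.fiber y) ↘ Spec (CommRingCat.of (Y.residueField y))) :=
    inferInstanceAs (LocallyOfFinitePresentation (f.fiberToSpecResidueField y))
  exact geomNormal_all_iff (Y.residueField y) z

theorem isLocallyConstructible_geomRk (m : ℕ) : IsLocallyConstructible {x : X |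
    ∀ (K : Type u) [Field K] [Algebra (IsLocalRing.ResidueField (Y.presheaf.stalk (f.base x))) K]
      (x' : ↥(FBase.bc (f.fiberToSpecResidueField (f.base x)) K)),
      (FBase.bcπ (f.fiberToSpecResidueField (f.base x)) K).base x' = f.asFiber x →
        LocCoh.HasRk m ((FBase.bc (f.fiberToSpecResidueField (f.base x)) K).presheaf.stalk x')} := by
  convert isLocallyConstructible_fibSmoothUpTo f m using 1
  ext x
  exact geomRk_all_fibre_iff f m _ _

theorem isLocallyConstructible_geomNormal : IsLocallyConstructible {x : X |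
    ∀ (K : Type u) [Field K] [Algebra (IsLocalRing.ResidueField (Y.presheaf.stalk (f.base x))) K]
      (x' : ↥(FBase.bc (f.fiberToSpecResidueField (f.base x)) K)),
      (FBase.bcπ (f.fiberToSpecResidueField (f.base x)) K).base x' = f.asFiber x →
        (IsDomain ((FBase.bc (f.fiberToSpecResidueField (f.base x)) K).presheaf.stalk x') ∧
          IsIntegrallyClosed ((FBase.bc (f.fiberToSpecResidueField (f.base x)) K).presheaf.stalk x'))} := by
  convert (Groth.Ega43FP2.isLocallyConstructible_hasSk f 2).inter (isLocallyConstructible_fibSmoothUpTo f 1) using 1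
  ext x
  exact geomNormal_all_fibre_iff f _ _

end Groth.Ega43Geom
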