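import Mathlib
import Groth.Prelude.Def_MoreMor
import Groth.Agent.Ega43Geom.FibreHeight
import Groth.Agent.Ega43FP2.AssFibre
import Groth.Agent.Ega43FP2.DepthConstructible
import Groth.Agent.Flatmor4.FibreAss
import Groth.Agent.PropsBasic.LocFree
import Groth.Agent.AlgGrp2.OrbitDim

/-!
# Associated points and components of the fibres: locally constructible loci
-/

set_option autoImplicit false
set_option linter.style.haveILetI false
set_option linter.unusedSectionVars false
universe u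

open CategoryTheory CategoryTheory.Limits AlgebraicGeometry Topology IsLocalRing
open scoped TensorProduct

set_option synthInstance.maxHeartbeats 400000
set_option maxHeartbeats 1600000

namespace Groth.Ega43Geom

/-- Local constructibility of a subset from affine open subsets. -/
theorem isLocallyConstructible_of_affine {S : Scheme.{u}} (E : Set S)
    (h : ∀ {O : S.Opens} (hO : IsAffineOpen O), IsConstructible (hO.fromSpec ⁻¹' E)) :
    IsLocallyConstructible E := by
  intro s
  obtain ⟨O, hO, hsO, -⟩ := exists_isAffineOpen_mem_and_subset (U := (⊤ : S.Opens)) (x := s) trivial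
  refine ⟨O, O.2.mem_nhds hsO, O.2, ?_⟩
  convert! hO.isoSpec.hom.isConstructible_preimage (h hO)
  ext z
  show z.1 ∈ E ↔ hO.fromSpec (hO.isoSpec.hom z) ∈ E
  rw [← Scheme.Hom.comp_apply, hO.isoSpec_hom_fromSpec]
  rfl

theorem isLocallyConstructible_compl {S : Scheme.{u}} {E : Set S} (h : IsLocallyConstructible E) :
    IsLocallyConstructible Eᶜ :=
  isLocallyConstructible_of_affine _ fun {O} hO => by
    rw [Set.preimage_compl]
    exact (h.preimage_of_isOpenEmbedding hO.fromSpec.isOpenEmbedding).isConstructible.compl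

variable {X S : Scheme.{u}} (f : X ⟶ S)

theorem specializes_asFiber_iff (x : X) (z : f.fiber (f.base x)) :
    z ⤳ f.asFiber x ↔ f.fiberι _ z ⤳ x := by
  rw [← (f.fiberι _).isEmbedding.toIsInducing.specializes_iff, f.fiberι_asFiber]

/-- A height bound on the preimage of an affine open. -/
theorem exists_height_bound_preimage [LocallyOfFinitePresentation f] [QuasiCompact f] {O : S.Opens}
    (hO : IsAffineOpen O) :
    ∃ N : ℕ, ∀ (y : S) (z : f.fiber y), y ∈ O → Order.height z ≤ (N : ℕ∞) := by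
  have hcomp : IsCompact ((f ⁻¹ᵁ O : X.Opens) : Set X) := QuasiCompact.isCompact_preimage _ O.2 hO.isCompact
  have hcov : ∀ x ∈ (f ⁻¹ᵁ O : X.Opens), ∃ W : X.Opens, IsAffineOpen W ∧ x ∈ W ∧ W ≤ f ⁻¹ᵁ O := fun x hx => by
    obtain ⟨W, hW, hxW, hWle⟩ := exists_isAffineOpen_mem_and_subset (U := f ⁻¹ᵁ O) (x := x) hx
    exact ⟨W, hW, hxW, hWle⟩
  choose W hW hxW hWO using hcov
  obtain ⟨t, ht⟩ := hcomp.elim_finite_subcover (fun x : (f ⁻¹ᵁ O : X.Opens) => (W x.1 x.2 : Set X))
    (fun x => (W x.1 x.2).isOpen) fun x hx => Set.mem_iUnion.2 ⟨⟨x, hx⟩, hxW x hx⟩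
  choose N hN using fun x : (f ⁻¹ᵁ O : X.Opens) =>
    Groth.FibreDim.exists_height_bound_of_affine f hO (hW x.1 x.2) (hWO x.1 x.2)
  refine ⟨t.sup N, fun y z hy => ?_⟩
  have hz : f.fiberι y z ∈ f ⁻¹ᵁ O := by
    show f (f.fiberι y z) ∈ O
    rw [Groth.FibreDim.apply_fiberι f y z]
    exact hy
  obtain ⟨x, hxt, hzx⟩ := Set.mem_iUnion₂.1 (ht hz)
  exact (hN x y z hzx).trans (Nat.cast_le.2 (Finset.le_sup hxt))

variable (F : X.Modules)

/-- The points where depth plus dimension of the closure is less than `m` in the fibre. -/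
def lowSet (m : ℕ) : Set X :=
  {x | ∃ k < m, (Groth.Ega43FP2.depthAt f F _ (f.asFiber x) : WithBot ℕ∞) +
    Groth.Ega43FP2.clDimAt f _ (f.asFiber x) = ((k : ℕ∞) : WithBot ℕ∞)}

variable [LocallyOfFinitePresentation f] [F.IsQuasicoherent]

theorem mem_lowSet_fiberι_iff (m : ℕ) (y : S) (z : f.fiber y) : f.fiberι y z ∈ lowSet f F m ↔
    ∃ k < m, (Groth.Ega43FP2.depthAt f F y z : WithBot ℕ∞) + ((Order.height z : ℕ∞) : WithBot ℕ∞) =
      ((k : ℕ∞) : WithBot ℕ∞) := by
  refine exists_congr fun k => and_congr_right fun _ => ?_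
  rw [← Groth.Ega43FP2.clDimAt_eq f y z]
  exact (Groth.Ega43FP2.apply_asFiber_eq f F
    (fun d _ t => (d : WithBot ℕ∞) + t = ((k : ℕ∞) : WithBot ℕ∞)) y z).symm

theorem isConstructible_preimage_lowSet (hF : CohB1.IsFP F) {W : X.Opens} (hW : IsAffineOpen W) (m : ℕ) :
    IsConstructible (hW.fromSpec ⁻¹' lowSet f F m) := by
  convert! IsConstructible.biUnion (Set.finite_Iio m) fun k _ =>
    ((Groth.Ega43FP2.isLocallyConstructible_depth_add_eq f F hF (k : ℕ∞)).preimage_of_isOpenEmbedding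
      hW.fromSpec.isOpenEmbedding).isConstructible using 1
  ext w
  simp [lowSet]

/-- Low points of large height are associated points. -/
theorem mem_lowSet_and_height_iff (τ : ℕ) (y : S) (z : f.fiber y) :
    f.fiberι y z ∈ lowSet f F (τ + 1) ∧ (τ : ℕ∞) ≤ Order.height z ↔
      Groth.Ega43FP2.depthAt f F y z = 0 ∧ Order.height z = (τ : ℕ∞) := by
  obtain ⟨t, ht⟩ := Groth.Ega43FP2.exists_height_eq_nat f y z
  rw [mem_lowSet_fiberι_iff, ht]
  generalize Groth.Ega43FP2.depthAt f F y z = d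
  constructor
  · rintro ⟨⟨k, hk, hkd⟩, hτ⟩
    rw [← WithBot.coe_add, WithBot.coe_inj] at hkd
    cases d using ENat.recTopCoe with
    | top => rw [top_add] at hkd; exact absurd hkd.symm (ENat.natCast_ne_top k)
    | coe d =>
      norm_cast at hkd hτ ⊢
      omega
  · rintro ⟨rfl, hτ⟩
    exact ⟨⟨t, by norm_cast at hτ; omega, by rw [WithBot.coe_zero, zero_add]⟩, hτ.ge⟩

/-- The relative assassin consists of the points of depth zero in the fibres. -/
theorem mem_relAss_fiberι_iff (hF : CohB1.IsFT F) (y : S) (z : f.fiber y) :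
    f.fiberι y z ∈ MoreMor.relAss f F ↔ Groth.Ega43FP2.depthAt f F y z = 0 := by
  let p := f.fiberToSpecResidueField y
  let G := (Scheme.Modules.pullback (f.fiberι y)).obj F
  have H : IsPullback (f.fiberι y) p f (S.fromSpecResidueField y) := IsPullback.of_hasPullback _ _
  have h0 : z ∈ MoreMor.relAss p G ↔ z ∈ AssSch.Ass G := by
    have hbot : (maximalIdeal ((Spec (S.residueField y)).presheaf.stalk (p z))).map (p.stalkMap z).hom •
        (⊤ : Submodule ((f.fiber y).presheaf.stalk z) (G.presheaf.stalk z)) = ⊥ := by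
      have : IsField ((Spec (S.residueField y)).presheaf.stalk (p z)) := by
        let K := S.residueField y
        let q : PrimeSpectrum K := p z
        haveI : q.asIdeal.IsMaximal := by
          rw [Ideal.eq_bot_of_prime q.asIdeal]
          exact Ideal.bot_isMaximal
        have hL : IsField (Localization.AtPrime q.asIdeal) :=
          MulEquiv.isField (Field.toIsField K)
            (IsLocalization.atUnits K q.asIdeal.primeCompl
              (fun a ha => isUnit_iff_ne_zero.2 fun h0 => ha (h0 ▸ q.asIdeal.zero_mem))).symm.toMulEquiv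
        exact MulEquiv.isField hL (StructureSheaf.stalkIso K q).symm.toMulEquiv
      rw [IsLocalRing.isField_iff_maximalIdeal_eq.1 this, Ideal.map_bot, Submodule.bot_smul]
    show maximalIdeal _ ∈ associatedPrimes _ _ ↔ maximalIdeal _ ∈ associatedPrimes _ _
    rw [LinearEquiv.AssociatedPrimes.eq ((Submodule.quotEquivOfEq _ _ hbot).trans (Submodule.quotEquivOfEqBot _ rfl))]
  rw [← Groth.Ega43FP2.mem_ass_fibre_iff f F hF y z, ← h0]
  obtain ⟨h1, h2⟩ := Groth.Flatmor4.relAss_baseChange (F := F) H z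
  refine ⟨h2 fun P hP _ => ?_, h1⟩
  have he : f.fiberι y ((f.fiber y).fromSpecStalk z P) = f.fiberι y z :=
    (Groth.Flatmor4.apply_fromSpecStalk_eq_iff (f.fiberι y) z P).2 hP
  exact ((f.fiber y).fromSpecStalk z).isEmbedding.injective
    (((f.fiberι y).isEmbedding.injective he).trans (f.fiber y).fromSpecStalk_closedPoint.symm)

/-- The points above embedded points of the fibre. -/
def embeddedAbove : Set X :=
  {x | ∃ z w : f.fiber (f.base x), z ⤳ f.asFiber x ∧ w ⤳ z ∧ w ≠ z ∧
    Groth.Ega43FP2.depthAt f F _ z = 0 ∧ Groth.Ega43FP2.depthAt f F _ w = 0}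

theorem isLocallyConstructible_embeddedAbove (hF : CohB1.IsFP F) :
    IsLocallyConstructible (embeddedAbove f F) := by
  refine Groth.Ega43FP2.isLocallyConstructible_of_charts f _ fun {W} hW {O} hO hWO => ?_
  obtain ⟨N, hN⟩ := Groth.FibreDim.exists_height_bound_of_affine f hO hW hWO
  let P : Set (ℕ × ℕ) := {q | q.1 < q.2 ∧ q.2 ≤ N}
  have hP : P.Finite := ((Set.finite_Iic N).prod (Set.finite_Iic N)).subset fun q hq =>
    ⟨le_trans hq.1.le hq.2, hq.2⟩
  have hB : ∀ q : ℕ × ℕ, IsConstructible (hW.fromSpec ⁻¹'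
      htSet f (lowSet f F (q.1 + 1) ∩ htSet f (lowSet f F (q.2 + 1)) q.2) q.1) := fun q => by
    refine isConstructible_preimage_htSet f hW hO hWO _ ?_ _
    rw [Set.preimage_inter]
    exact (isConstructible_preimage_lowSet f F hF hW _).inter
      (isConstructible_preimage_htSet f hW hO hWO _ (isConstructible_preimage_lowSet f F hF hW _) _)
  convert! IsConstructible.biUnion hP fun q _ => hB q using 1
  ext v
  have hxW : hW.fromSpec v ∈ W := hW.range_fromSpec.subset ⟨v, rfl⟩
  simp only [Set.mem_preimage, Set.mem_iUnion]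
  generalize hW.fromSpec v = x at hxW ⊢
  constructor
  · rintro ⟨z, w, hz, hwz, hne, hdz, hdw⟩
    obtain ⟨a, ha⟩ := Groth.Ega43FP2.exists_height_eq_nat f _ z
    obtain ⟨b, hb⟩ := Groth.Ega43FP2.exists_height_eq_nat f _ w
    have hlt : z < w := lt_of_le_not_ge (Scheme.le_iff_specializes.2 hwz)
      fun h => hne ((Scheme.le_iff_specializes.1 h).antisymm hwz).eq.symm
    have hab := Order.height_strictMono hlt (by rw [ha]; exact ENat.natCast_lt_top a)
    rw [ha, hb, Nat.cast_lt] at hab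
    have hwW : f.fiberι _ w ∈ W := ((specializes_asFiber_iff f x w).1 (hwz.trans hz)).mem_open W.isOpen hxW
    have hbN : b ≤ N := Nat.cast_le.1 (hb ▸ hN _ w hwW)
    refine ⟨(a, b), ⟨hab, hbN⟩, z, hz, ⟨((mem_lowSet_and_height_iff f F a _ z).2 ⟨hdz, ha⟩).1,
      (mem_htSet_fiberι f _ b _ z).2 ⟨w, hwz, ((mem_lowSet_and_height_iff f F b _ w).2 ⟨hdw, hb⟩).1, hb.ge⟩⟩, ha.ge⟩
  · rintro ⟨⟨a, b⟩, ⟨hab, -⟩, z, hz, ⟨hzL, hzH⟩, ha⟩
    obtain ⟨hdz, hza⟩ := (mem_lowSet_and_height_iff f F a _ z).1 ⟨hzL, ha⟩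
    obtain ⟨w, hwz, hwL, hb⟩ := (mem_htSet_fiberι f _ b _ z).1 hzH
    obtain ⟨hdw, hwb⟩ := (mem_lowSet_and_height_iff f F b _ w).1 ⟨hwL, hb⟩
    refine ⟨z, w, hz, hwz, fun h => ?_, hdz, hdw⟩
    rw [h, hza, Nat.cast_inj] at hwb
    exact absurd hwb (Nat.ne_of_lt hab)

theorem isLocallyConstructible_noEmbedded [QuasiCompact f] (hF : CohB1.IsFP F) :
    IsLocallyConstructible {s : S | AssSch.NoEmbedded ((Scheme.Modules.pullback (f.fiberι s)).obj F)} := by
  have h := f.isLocallyConstructible_image (isLocallyConstructible_embeddedAbove f F hF)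
  convert! isLocallyConstructible_compl h using 1
  ext s
  have hFT := Groth.PropsBasic.LocFree.isFT_of_isFP F hF
  simp only [Set.mem_ofPred_eq, Set.mem_compl_iff, Set.mem_image, not_exists, not_and]
  constructor
  · rintro hs x ⟨z, w, -, hwz, hne, hdz, hdw⟩ rfl
    exact hne (hs z ((Groth.Ega43FP2.mem_ass_fibre_iff f F hFT _ z).2 hdz) w
      ((Groth.Ega43FP2.mem_ass_fibre_iff f F hFT _ w).2 hdw) hwz).symm
  · intro hs z hz w hw hwz
    rw [Groth.Ega43FP2.mem_ass_fibre_iff f F hFT] at hz hw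
    by_contra hne
    have key : ∀ (x : X) (y : S) (z w : f.fiber y), f.base x = y → f.fiberι y z = x → w ⤳ z → w ≠ z →
        Groth.Ega43FP2.depthAt f F y z = 0 → Groth.Ega43FP2.depthAt f F y w = 0 → x ∈ embeddedAbove f F := by
      rintro x _ z w rfl hzx hwz hne hdz hdw
      refine ⟨z, w, ?_, hwz, hne, hdz, hdw⟩
      rw [specializes_asFiber_iff, hzx]
    exact hs _ (key _ s z w (Groth.FibreDim.apply_fiberι f s z) rfl hwz (Ne.symm hne) hz hw)
      (Groth.FibreDim.apply_fiberι f s z)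

/-- The points above associated points of the fibre outside `U`. -/
def assOutsideAbove (U : X.Opens) : Set X :=
  {x | ∃ z : f.fiber (f.base x), z ⤳ f.asFiber x ∧ f.fiberι _ z ∉ U ∧ Groth.Ega43FP2.depthAt f F _ z = 0}

theorem isLocallyConstructible_assOutsideAbove [QuasiSeparated f] (hF : CohB1.IsFP F) (U : X.Opens)
    [QuasiCompact (U.ι ≫ f)] : IsLocallyConstructible (assOutsideAbove f F U) := by
  refine Groth.Ega43FP2.isLocallyConstructible_of_charts f _ fun {W} hW {O} hO hWO => ?_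
  obtain ⟨N, hN⟩ := Groth.FibreDim.exists_height_bound_of_affine f hO hW hWO
  have hU : IsConstructible (hW.fromSpec ⁻¹' (U : Set X)) := by
    refine IsCompact.isConstructible ?_ (U.isOpen.preimage hW.fromSpec.continuous)
    rw [hW.fromSpec.isOpenEmbedding.isCompact_iff, Set.image_preimage_eq_inter_range, hW.range_fromSpec]
    have h1 : IsCompact ((U : Set X) ∩ (f ⁻¹ᵁ O : X.Opens)) := by
      have := QuasiCompact.isCompact_preimage (f := U.ι ≫ f) (O : Set S) O.2 hO.isCompact
      convert this.image U.ι.continuous using 1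
      ext x
      constructor
      · rintro ⟨hxU, hxO⟩
        exact ⟨⟨x, hxU⟩, hxO, rfl⟩
      · rintro ⟨v, hv, rfl⟩
        exact ⟨v.2, hv⟩
    have hqs : IsQuasiSeparated ((f ⁻¹ᵁ O : X.Opens) : Set X) := by
      haveI : IsAffine O := hO
      haveI : QuasiSeparatedSpace (f ⁻¹ᵁ O : X.Opens).toScheme := quasiSeparatedSpace_of_quasiSeparated (f ∣_ O)
      exact (isQuasiSeparated_iff_quasiSeparatedSpace _ (f ⁻¹ᵁ O).2).2
        (inferInstanceAs (QuasiSeparatedSpace (f ⁻¹ᵁ O : X.Opens).toScheme))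
    have h2 := hqs (U ∩ (f ⁻¹ᵁ O : X.Opens)) W (fun x hx => hx.2) (U.isOpen.inter (f ⁻¹ᵁ O).2) h1 hWO W.2 hW.isCompact
    convert h2 using 1
    ext x
    exact ⟨fun h => ⟨⟨h.1, hWO h.2⟩, h.2⟩, fun h => ⟨h.1.1, h.2⟩⟩
  have hB : ∀ τ : ℕ, IsConstructible (hW.fromSpec ⁻¹' htSet f (lowSet f F (τ + 1) ∩ (U : Set X)ᶜ) τ) := fun τ => by
    refine isConstructible_preimage_htSet f hW hO hWO _ ?_ _
    rw [Set.preimage_inter, Set.preimage_compl]
    exact (isConstructible_preimage_lowSet f F hF hW _).inter hU.compl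
  convert! IsConstructible.biUnion (Set.finite_Iic N) fun τ _ => hB τ using 1
  ext v
  have hxW : hW.fromSpec v ∈ W := hW.range_fromSpec.subset ⟨v, rfl⟩
  simp only [Set.mem_preimage, Set.mem_iUnion]
  generalize hW.fromSpec v = x at hxW ⊢
  constructor
  · rintro ⟨z, hz, hzU, hdz⟩
    obtain ⟨a, ha⟩ := Groth.Ega43FP2.exists_height_eq_nat f _ z
    have hzW : f.fiberι _ z ∈ W := ((specializes_asFiber_iff f x z).1 hz).mem_open W.isOpen hxW
    exact ⟨a, Nat.cast_le.1 (ha ▸ hN _ z hzW), z, hz,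
      ⟨((mem_lowSet_and_height_iff f F a _ z).2 ⟨hdz, ha⟩).1, hzU⟩, ha.ge⟩
  · rintro ⟨a, -, z, hz, ⟨hzL, hzU⟩, ha⟩
    exact ⟨z, hz, hzU, ((mem_lowSet_and_height_iff f F a _ z).1 ⟨hzL, ha⟩).1⟩

theorem isLocallyConstructible_relAss_subset [QuasiCompact f] [QuasiSeparated f] (hF : CohB1.IsFP F) (U : X.Opens)
    [QuasiCompact (U.ι ≫ f)] :
    IsLocallyConstructible {y : S | ∀ x ∈ MoreMor.relAss f F, f x = y → x ∈ U} := by
  have h := f.isLocallyConstructible_image (isLocallyConstructible_assOutsideAbove f F hF U)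
  convert! isLocallyConstructible_compl h using 1
  ext y
  have hFT := Groth.PropsBasic.LocFree.isFT_of_isFP F hF
  simp only [Set.mem_ofPred_eq, Set.mem_compl_iff, Set.mem_image, not_exists, not_and]
  constructor
  · rintro hy x ⟨z, -, hzU, hdz⟩ rfl
    exact hzU (hy _ ((mem_relAss_fiberι_iff f F hFT _ z).2 hdz) (Groth.FibreDim.apply_fiberι f _ z))
  · intro hy x hx hxy
    by_contra hxU
    subst hxy
    refine hy x ⟨f.asFiber x, specializes_rfl, by rwa [f.fiberι_asFiber], ?_⟩ rfl
    rw [← mem_relAss_fiberι_iff f F hFT, f.fiberι_asFiber]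
    exact hx

/-- The dimensions of the irreducible components of a locally closed subset. -/
theorem image_dim_irreducibleComponents {A T : Type u} [TopologicalSpace A] [QuasiSober A] [T0Space A]
    [TopologicalSpace T] (i : T → A) (hi : IsEmbedding i) (hlc : IsLocallyClosed (Set.range i))
    (ht : A → WithBot ℕ∞)
    (hdim : ∀ η ∈ Set.range i, topologicalKrullDim ↥(closure ({η} : Set A) ∩ Set.range i) = ht η) :
    (fun C : Set T => topologicalKrullDim ↥C) '' irreducibleComponents T =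
      ht '' {η | η ∈ Set.range i ∧ ∀ v ∈ Set.range i, v ⤳ η → v = η} := by
  obtain ⟨U, K, hU, hK, hUK⟩ := hlc
  have hgen : ∀ C : Set T, IsClosed C → IsIrreducible C → ∃ t, IsGenericPoint t C ∧
      i '' C = closure {i t} ∩ Set.range i := by
    intro C hC hirr
    obtain ⟨η, hη⟩ := QuasiSober.sober (hirr.image i hi.continuous.continuousOn).closure isClosed_closure
    obtain ⟨t₀, ht₀⟩ := hirr.nonempty
    have hηK : η ∈ K := closure_minimal (Set.image_subset_iff.2 fun t _ => (hUK.subset ⟨t, rfl⟩).2) hK hη.mem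
    have hηU : η ∈ U := (hη.specializes (subset_closure ⟨t₀, ht₀, rfl⟩)).mem_open hU (hUK.subset ⟨t₀, rfl⟩).1
    obtain ⟨t, rfl⟩ : η ∈ Set.range i := hUK.ge ⟨hηU, hηK⟩
    have hcl : C = i ⁻¹' closure (i '' C) := by rw [← hi.closure_eq_preimage_closure_image, hC.closure_eq]
    have htC : closure {i t} = closure (i '' C) := hη.def
    refine ⟨t, ?_, ?_⟩
    · show closure {t} = C
      rw [hi.closure_eq_preimage_closure_image, Set.image_singleton, htC, ← hcl]
    · rw [htC]
      conv_lhs => rw [hcl, Set.image_preimage_eq_inter_range]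
  have hd : ∀ C t, i '' C = closure {i t} ∩ Set.range i → topologicalKrullDim ↥C = ht (i t) := by
    intro C t h
    rw [← hdim _ ⟨t, rfl⟩, ← h]
    exact (hi.homeomorphImage C).isHomeomorph.topologicalKrullDim_eq
  ext d
  constructor
  · rintro ⟨C, hC, rfl⟩
    obtain ⟨t, htC, himg⟩ := hgen C (isClosed_of_mem_irreducibleComponents C hC) hC.1
    refine ⟨i t, ⟨⟨t, rfl⟩, ?_⟩, (hd C t himg).symm⟩
    rintro _ ⟨v, rfl⟩ hvt
    rw [hi.toIsInducing.specializes_iff] at hvt
    have h1 : C ≤ closure {v} := htC.def ▸ closure_minimal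
      (Set.singleton_subset_iff.2 (specializes_iff_mem_closure.1 hvt)) isClosed_closure
    have h2 := hC.2 isIrreducible_singleton.closure h1
    have hgv : IsGenericPoint v C := le_antisymm h2 h1
    haveI := hi.t0Space
    rw [hgv.eq htC]
  · rintro ⟨_, ⟨⟨t, rfl⟩, hmax⟩, rfl⟩
    obtain ⟨t', ht', himg⟩ := hgen _ isClosed_closure (isIrreducible_singleton (x := t)).closure
    haveI := hi.t0Space
    obtain rfl : t' = t := ht'.eq rfl
    refine ⟨closure {t'}, ⟨isIrreducible_singleton.closure, fun D hD hle => ?_⟩, hd _ _ himg⟩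
    obtain ⟨v, hv, -⟩ := hgen _ isClosed_closure hD.closure
    have hvt : v = t' := hi.injective (hmax _ ⟨v, rfl⟩
      ((hv.specializes (subset_closure (hle (subset_closure rfl)))).map hi.continuous))
    rw [hvt] at hv
    exact hv.def ▸ subset_closure

/-- The points above a component of dimension `τ` of a subset of the fibre. -/
def componentDimAbove (Z : Set X) (τ : ℕ) : Set X := htSet f (Z ∩ (htSet f Z (τ + 1))ᶜ) τ

theorem isLocallyConstructible_componentDimAbove {Z : Set X} (hZ : IsLocallyConstructible Z) (τ : ℕ) :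
    IsLocallyConstructible (componentDimAbove f Z τ) := by
  refine Groth.Ega43FP2.isLocallyConstructible_of_charts f _ fun {W} hW {O} hO hWO => ?_
  have hZW : IsConstructible (hW.fromSpec ⁻¹' Z) :=
    (hZ.preimage_of_isOpenEmbedding hW.fromSpec.isOpenEmbedding).isConstructible
  refine isConstructible_preimage_htSet f hW hO hWO _ ?_ τ
  rw [Set.preimage_inter, Set.preimage_compl]
  exact hZW.inter (isConstructible_preimage_htSet f hW hO hWO _ hZW _).compl

theorem mem_image_componentDimAbove_iff (Z : Set X) (τ : ℕ) (s : S) :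
    s ∈ f '' componentDimAbove f Z τ ↔
      ∃ z : f.fiber s, (f.fiberι s z ∈ Z ∧ ∀ v, f.fiberι s v ∈ Z → v ⤳ z → v = z) ∧
        Order.height z = (τ : ℕ∞) := by
  constructor
  · rintro ⟨x, ⟨z, -, ⟨hzZ, hzH⟩, hτ⟩, rfl⟩
    rw [Set.mem_compl_iff, mem_htSet_fiberι] at hzH
    have hle : ∀ v, f.fiberι _ v ∈ Z → v ⤳ z → Order.height v ≤ (τ : ℕ∞) := fun v hv hvz => by
      obtain ⟨b, hb⟩ := Groth.Ega43FP2.exists_height_eq_nat f _ v
      rw [hb, Nat.cast_le]
      by_contra hlt
      exact hzH ⟨v, hvz, hv, by rw [hb, Nat.cast_le]; omega⟩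
    have hzτ := le_antisymm (hle z hzZ specializes_rfl) hτ
    refine ⟨z, ⟨hzZ, fun v hv hvz => ?_⟩, hzτ⟩
    by_contra hne
    have hlt : z < v := lt_of_le_not_ge (Scheme.le_iff_specializes.2 hvz)
      fun h => hne ((Scheme.le_iff_specializes.1 h).antisymm hvz).eq.symm
    have h := Order.height_strictMono hlt (by rw [hzτ]; exact ENat.natCast_lt_top τ)
    rw [hzτ] at h
    exact absurd (hle v hv hvz) (not_le.2 h)
  · rintro ⟨z, ⟨hzZ, hmax⟩, hh⟩
    refine ⟨f.fiberι s z, (mem_htSet_fiberι f _ τ s z).2 ⟨z, specializes_rfl, ⟨hzZ, ?_⟩, hh.ge⟩,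
      Groth.FibreDim.apply_fiberι f s z⟩
    rw [Set.mem_compl_iff, mem_htSet_fiberι]
    rintro ⟨v, hvz, hvZ, hvτ⟩
    rw [hmax v hvZ hvz, hh, Nat.cast_le] at hvτ
    omega

theorem isLocallyConstructible_componentDims [QuasiCompact f] (Z : Set X) (hZ : IsLocallyConstructible Z)
    (hZs : ∀ s : S, IsLocallyClosed (Subtype.val ⁻¹' Z : Set ↥(⇑f ⁻¹' {s}))) (Φ : Set (WithBot ℕ∞)) :
    IsLocallyConstructible {s : S |
      (fun T : Set ↥(Z ∩ ⇑f ⁻¹' {s}) => topologicalKrullDim ↥T) '' irreducibleComponents ↥(Z ∩ ⇑f ⁻¹' {s}) = Φ} := by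
  let D : S → Set (WithBot ℕ∞) := fun s => (fun z : f.fiber s => ((Order.height z : ℕ∞) : WithBot ℕ∞)) ''
    {z | f.fiberι s z ∈ Z ∧ ∀ v, f.fiberι s v ∈ Z → v ⤳ z → v = z}
  have hD : ∀ s : S, (fun T : Set ↥(Z ∩ ⇑f ⁻¹' {s}) => topologicalKrullDim ↥T) ''
      irreducibleComponents ↥(Z ∩ ⇑f ⁻¹' {s}) = D s := by
    intro s
    let i : ↥(Z ∩ ⇑f ⁻¹' {s}) → f.fiber s := fun x => (f.fiberHomeo s).symm ⟨x.1, x.2.2⟩
    have hcomp : ∀ x, f.fiberι s (i x) = x.1 := fun x => f.fiberι_fiberHomeo_symm s ⟨x.1, x.2.2⟩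
    have hi : IsEmbedding i := by
      refine IsEmbedding.of_comp ((f.fiberHomeo s).symm.continuous.comp
        (Continuous.subtype_mk continuous_subtype_val _)) (f.fiberι s).continuous ?_
      convert IsEmbedding.subtypeVal using 1
      exact funext hcomp
    have hrange : Set.range i = (f.fiberι s) ⁻¹' Z := by
      ext z
      constructor
      · rintro ⟨x, rfl⟩
        show f.fiberι s (i x) ∈ Z
        rw [hcomp]
        exact x.2.1
      · intro hz
        exact ⟨⟨f.fiberι s z, hz, Groth.FibreDim.apply_fiberι f s z⟩,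
          (f.fiberι s).isEmbedding.injective (hcomp _)⟩
    have hlc : IsLocallyClosed ((f.fiberι s) ⁻¹' Z) := by
      convert (hZs s).preimage (f.fiberHomeo s).continuous using 1
      ext z
      simp [Scheme.Hom.fiberHomeo_apply]
    have hdim : ∀ η ∈ Set.range i, topologicalKrullDim ↥(closure ({η} : Set ↥(f.fiber s)) ∩ Set.range i) =
        ((Order.height η : ℕ∞) : WithBot ℕ∞) := by
      intro η hη
      rw [Groth.AlgGrp2.dim_locallyClosed (k := S.residueField s) (f.fiberToSpecResidueField s)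
        (isClosed_closure.isLocallyClosed.inter (hrange.symm ▸ hlc))]
      refine le_antisymm (iSup₂_le fun x hx => WithBot.coe_le_coe.2 (Order.height_mono
        (Scheme.le_iff_specializes.2 (specializes_iff_mem_closure.2 hx.1)))) ?_
      exact le_iSup₂ (f := fun x (_ : x ∈ closure ({η} : Set ↥(f.fiber s)) ∩ Set.range i) =>
        ((Order.height x : ℕ∞) : WithBot ℕ∞)) η ⟨subset_closure rfl, hη⟩
    rw [image_dim_irreducibleComponents i hi (hrange.symm ▸ hlc) _ hdim, hrange]
    rfl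
  simp only [hD]
  refine isLocallyConstructible_of_affine _ fun {O} hO => ?_
  obtain ⟨N, hN⟩ := exists_height_bound_preimage f hO
  let cast : ℕ → WithBot ℕ∞ := fun τ => ((τ : ℕ∞) : WithBot ℕ∞)
  have hT : ∀ τ, IsConstructible (hO.fromSpec ⁻¹' {s | cast τ ∈ D s}) := fun τ => by
    have h := ((f.isLocallyConstructible_image (isLocallyConstructible_componentDimAbove f hZ τ)
      ).preimage_of_isOpenEmbedding hO.fromSpec.isOpenEmbedding).isConstructible
    convert h using 1
    ext w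
    show cast τ ∈ D _ ↔ hO.fromSpec w ∈ f '' componentDimAbove f Z τ
    rw [mem_image_componentDimAbove_iff]
    exact exists_congr fun z => and_congr_right fun _ => WithBot.coe_inj
  have hsub : ∀ w, D (hO.fromSpec w) ⊆ cast '' Set.Iic N := by
    rintro w _ ⟨z, -, rfl⟩
    obtain ⟨t, ht⟩ := Groth.Ega43FP2.exists_height_eq_nat f _ z
    exact ⟨t, Nat.cast_le.1 (ht ▸ hN _ z (hO.range_fromSpec.subset ⟨w, rfl⟩)), by simp [cast, ht]⟩
  by_cases hΦ : Φ ⊆ cast '' Set.Iic N
  · have h := IsConstructible.biInter (Set.finite_Iic N) (f := fun τ =>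
      {w | cast τ ∈ D (hO.fromSpec w) ↔ cast τ ∈ Φ}) fun τ _ => by
      by_cases hτ : cast τ ∈ Φ
      · convert hT τ using 1
        ext w
        simp [hτ]
      · convert (hT τ).compl using 1
        ext w
        simp [hτ]
    convert h using 1
    ext w
    simp only [Set.mem_preimage, Set.mem_ofPred_eq, Set.mem_iInter]
    constructor
    · rintro hw τ -
      rw [hw]
    · intro hw
      ext d
      constructor
      · intro hd
        obtain ⟨τ, hτ, rfl⟩ := hsub w hd
        exact (hw τ hτ).1 hd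
      · intro hd
        obtain ⟨τ, hτ, rfl⟩ := hΦ hd
        exact (hw τ hτ).2 hd
  · convert IsConstructible.empty using 1
    ext w
    simp only [Set.mem_preimage, Set.mem_ofPred_eq, Set.mem_empty_iff_false, iff_false]
    exact fun hw => hΦ (hw ▸ hsub w)

end Groth.Ega43Geom
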