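import Mathlib
import Groth.Agent.Ega43Geom.AssLocus
import Groth.Agent.Ega43Geom.FibreHeight
import Groth.Agent.LocCohTransform.AdjDepth

/-!
# Locally constructible loci on the base
-/

set_option autoImplicit false
set_option linter.style.haveILetI false
set_option linter.unusedSectionVars false
universe u

open CategoryTheory CategoryTheory.Limits AlgebraicGeometry Topology

set_option synthInstance.maxHeartbeats 400000
set_option maxHeartbeats 1600000

namespace Groth.Ega43Geom

variable {X S : Scheme.{u}} (f : X ⟶ S) [LocallyOfFinitePresentation f] [QuasiCompact f]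

/-- The points of the base all of whose fibre satisfies a locally constructible condition. -/
theorem isLocallyConstructible_forall_fibre (G : ∀ s : S, f.fiber s → Prop)
    (hG : IsLocallyConstructible {x : X | G _ (f.asFiber x)}) :
    IsLocallyConstructible {s : S | ∀ z : f.fiber s, G s z} := by
  have h := f.isLocallyConstructible_image (isLocallyConstructible_compl hG)
  convert! isLocallyConstructible_compl h using 1
  ext s
  simp only [Set.mem_compl_iff, Set.mem_ofPred_eq, Set.mem_image, not_exists, not_and]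
  constructor
  · rintro hs x hx rfl
    exact hx (hs _)
  · intro hs z
    have key : ∀ (x : X) (s : S) (z : f.fiber s), f.base x = s → f.fiberι s z = x →
        G _ (f.asFiber x) → G s z := by
      rintro x _ z rfl hz h
      obtain rfl : z = f.asFiber x := (f.fiberι _).isEmbedding.injective (hz.trans (f.fiberι_asFiber x).symm)
      exact h
    by_contra hzG
    exact hs _ (fun h => hzG (key _ s z (Groth.FibreDim.apply_fiberι f s z) rfl h))
      (Groth.FibreDim.apply_fiberι f s z)

omit [LocallyOfFinitePresentation f] in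
/-- A set valued function with values in a bounded set of integers and constructible membership loci. -/
theorem isLocallyConstructible_levelSet (D : S → Set (WithBot ℕ∞))
    (hD : ∀ τ : ℕ, IsLocallyConstructible {s | ((τ : ℕ∞) : WithBot ℕ∞) ∈ D s})
    (hb : ∀ {O : S.Opens}, IsAffineOpen O → ∃ N : ℕ, ∀ s ∈ O,
      D s ⊆ (fun τ : ℕ => ((τ : ℕ∞) : WithBot ℕ∞)) '' Set.Iic N)
    (Φ : Set (WithBot ℕ∞)) : IsLocallyConstructible {s | D s = Φ} := by
  refine isLocallyConstructible_of_affine _ fun {O} hO => ?_
  obtain ⟨N, hN⟩ := hb hO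
  let cast : ℕ → WithBot ℕ∞ := fun τ => ((τ : ℕ∞) : WithBot ℕ∞)
  have hT : ∀ τ, IsConstructible (hO.fromSpec ⁻¹' {s | cast τ ∈ D s}) := fun τ =>
    ((hD τ).preimage_of_isOpenEmbedding hO.fromSpec.isOpenEmbedding).isConstructible
  have hsub : ∀ w, D (hO.fromSpec w) ⊆ cast '' Set.Iic N := fun w =>
    hN _ (hO.range_fromSpec.subset ⟨w, rfl⟩)
  by_cases hΦ : Φ ⊆ cast '' Set.Iic N
  · have h := IsConstructible.biInter (Set.finite_Iic N) (f := fun τ =>
      {w | cast τ ∈ D (hO.fromSpec w) ↔ cast τ ∈ Φ}) fun τ _ => by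
      by_cases hτ : cast τ ∈ Φ
      · convert hT τ using 1
        ext w
        simp [hτ]
      · convert (hT τ).compl using 1
        ext w
        simp [hτ]
    convert h using 1
    ext w
    simp only [Set.mem_preimage, Set.mem_ofPred_eq, Set.mem_iInter]
    constructor
    · rintro hw τ -
      rw [hw]
    · intro hw
      ext d
      constructor
      · intro hd
        obtain ⟨τ, hτ, rfl⟩ := hsub w hd
        exact (hw τ hτ).1 hd
      · intro hd
        obtain ⟨τ, hτ, rfl⟩ := hΦ hd
        exact (hw τ hτ).2 hd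
  · convert IsConstructible.empty using 1
    ext w
    simp only [Set.mem_preimage, Set.mem_ofPred_eq, Set.mem_empty_iff_false, iff_false]
    exact fun hw => hΦ (hw ▸ hsub w)

theorem isLocallyConstructible_geomRk_fibre (m : ℕ) : IsLocallyConstructible {s : S |
    ∀ (K : Type u) [Field K] [Algebra (IsLocalRing.ResidueField (S.presheaf.stalk s)) K]
      (x' : ↥(FBase.bc (f.fiberToSpecResidueField s) K)),
      LocCoh.HasRk m ((FBase.bc (f.fiberToSpecResidueField s) K).presheaf.stalk x')} := by
  convert isLocallyConstructible_forall_fibre f (fun s z => FibSmoothUpTo f m s z)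
    (isLocallyConstructible_fibSmoothUpTo f m) using 1
  ext s
  simp only [Set.mem_ofPred_eq]
  exact ⟨fun h z => (geomRk_all_fibre_iff f m s z).1 fun K _ _ x' _ => h K x',
    fun h K _ _ x' => (geomRk_all_fibre_iff f m s _).2 (h _) K x' rfl⟩

theorem isLocallyConstructible_geomNormal_fibre : IsLocallyConstructible {s : S |
    ∀ (K : Type u) [Field K] [Algebra (IsLocalRing.ResidueField (S.presheaf.stalk s)) K]
      (x' : ↥(FBase.bc (f.fiberToSpecResidueField s) K)),
      IsDomain ((FBase.bc (f.fiberToSpecResidueField s) K).presheaf.stalk x') ∧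
        IsIntegrallyClosed ((FBase.bc (f.fiberToSpecResidueField s) K).presheaf.stalk x')} := by
  convert isLocallyConstructible_forall_fibre f
    (fun s z => LocCoh.HasSk 2 ((f.fiber s).presheaf.stalk z) ((f.fiber s).presheaf.stalk z) ∧ FibSmoothUpTo f 1 s z)
    ((Groth.Ega43FP2.isLocallyConstructible_hasSk f 2).inter (isLocallyConstructible_fibSmoothUpTo f 1)) using 1
  ext s
  simp only [Set.mem_ofPred_eq]
  exact ⟨fun h z => (geomNormal_all_fibre_iff f s z).1 fun K _ _ x' _ => h K x',
    fun h K _ _ x' => (geomNormal_all_fibre_iff f s _).2 (h _) K x' rfl⟩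

variable (F : X.Modules) [F.IsQuasicoherent]

/-- The points above an associated point of dimension `τ` of the fibre. -/
theorem isLocallyConstructible_assDimAbove (hF : CohB1.IsFP F) (τ : ℕ) :
    IsLocallyConstructible (htSet f (lowSet f F (τ + 1)) τ) :=
  Groth.Ega43FP2.isLocallyConstructible_of_charts f _ fun {W} hW {_} hO hWO =>
    isConstructible_preimage_htSet f hW hO hWO _ (isConstructible_preimage_lowSet f F hF hW _) τ

theorem isLocallyConstructible_assDims (hF : CohB1.IsFP F) (Φ : Set (WithBot ℕ∞)) :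
    IsLocallyConstructible {s : S |
      (fun z : ↥(f.fiber s) => topologicalKrullDim ↥(closure ({z} : Set ↥(f.fiber s)))) ''
          AssSch.Ass ((Scheme.Modules.pullback (f.fiberι s)).obj F) = Φ} := by
  have hFT := Groth.PropsBasic.LocFree.isFT_of_isFP F hF
  refine isLocallyConstructible_levelSet _ (fun τ => ?_) (fun {O} hO => ?_) Φ
  · convert f.isLocallyConstructible_image (isLocallyConstructible_assDimAbove f F hF τ) using 1
    ext s
    simp only [Set.mem_ofPred_eq, Set.mem_image]
    constructor
    · rintro ⟨z, hz, hh⟩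
      rw [Groth.Ega43FP2.mem_ass_fibre_iff f F hFT] at hz
      have hh' : Order.height z = (τ : ℕ∞) := WithBot.coe_inj.1 ((Groth.Ega43FP2.clDimAt_eq f s z).symm.trans hh)
      exact ⟨f.fiberι s z, (mem_htSet_fiberι f _ τ s z).2
        ⟨z, specializes_rfl, ((mem_lowSet_and_height_iff f F τ s z).2 ⟨hz, hh'⟩).1, hh'.ge⟩,
        Groth.FibreDim.apply_fiberι f s z⟩
    · rintro ⟨x, ⟨z, -, hzL, hτ⟩, rfl⟩
      obtain ⟨hd, hh⟩ := (mem_lowSet_and_height_iff f F τ _ z).1 ⟨hzL, hτ⟩
      exact ⟨z, (Groth.Ega43FP2.mem_ass_fibre_iff f F hFT _ z).2 hd,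
        (Groth.Ega43FP2.clDimAt_eq f _ z).trans (by rw [hh])⟩
  · obtain ⟨N, hN⟩ := exists_height_bound_preimage f hO
    refine ⟨N, ?_⟩
    rintro s hs _ ⟨z, -, rfl⟩
    obtain ⟨t, ht⟩ := Groth.Ega43FP2.exists_height_eq_nat f s z
    exact ⟨t, Nat.cast_le.1 (ht ▸ hN s z hs), ((Groth.Ega43FP2.clDimAt_eq f s z).trans (by rw [ht])).symm⟩

/-- The fibre module is nonzero exactly on the support. -/
theorem depthAt_ne_top_iff (hF : CohB1.IsFT F) (s : S) (z : f.fiber s) :
    Groth.Ega43FP2.depthAt f F s z ≠ ⊤ ↔ z ∈ Groth.Ega43FP2.suppFib f F s := by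
  constructor
  · intro h
    by_contra hn
    haveI := not_nontrivial_iff_subsingleton.1 hn
    exact h (Groth.LocCohTransform.depth_eq_top_of_subsingleton _)
  · intro hz htop
    have hbot : Groth.Ega43FP2.suppAt f F s z ≠ ⊥ := by
      rw [Ne, Module.supportDim_eq_bot_iff_subsingleton]
      exact not_subsingleton_iff_nontrivial.2 hz
    have h1 := (Groth.Ega43FP2.depthAt_le_suppAt f F hF hbot).trans (Module.supportDim_le_ringKrullDim _ _)
    haveI := Groth.Ega43FP2.isLocallyNoetherian_fibre f s
    have h3 : ringKrullDim ((f.fiber s).presheaf.stalk z) < ⊤ := ringKrullDim_lt_top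
    rw [htop] at h1
    exact absurd (h1.trans_lt h3) (lt_irrefl _)

theorem isLocallyConstructible_supportDims (hF : CohB1.IsFP F) (Φ : Set (WithBot ℕ∞)) :
    IsLocallyConstructible {s : S |
      (fun Z : Set ↥(CohB1.support ((Scheme.Modules.pullback (f.fiberι s)).obj F)) => topologicalKrullDim ↥Z) ''
          irreducibleComponents ↥(CohB1.support ((Scheme.Modules.pullback (f.fiberι s)).obj F)) = Φ} := by
  have hFT := Groth.PropsBasic.LocFree.isFT_of_isFP F hF
  let Z : Set X := {x : X | (Groth.Ega43FP2.depthAt f F _ (f.asFiber x) : WithBot ℕ∞) +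
    Groth.Ega43FP2.clDimAt f _ (f.asFiber x) = ((⊤ : ℕ∞) : WithBot ℕ∞)}ᶜ
  have hZ : IsLocallyConstructible Z :=
    isLocallyConstructible_compl (Groth.Ega43FP2.isLocallyConstructible_depth_add_eq f F hF ⊤)
  have hmem : ∀ (s : S) (z : f.fiber s), f.fiberι s z ∈ Z ↔
      z ∈ CohB1.support ((Scheme.Modules.pullback (f.fiberι s)).obj F) := by
    intro s z
    obtain ⟨t, ht⟩ := Groth.Ega43FP2.exists_height_eq_nat f s z
    have h1 := Groth.Ega43FP2.apply_asFiber_eq f F
      (fun d _ c => ¬ (d : WithBot ℕ∞) + c = ((⊤ : ℕ∞) : WithBot ℕ∞)) s z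
    rw [Groth.Ega43FP2.clDimAt_eq, ht] at h1
    refine h1.symm.trans (Iff.trans ?_ ((depthAt_ne_top_iff f F hFT s z).trans not_subsingleton_iff_nontrivial.symm))
    generalize Groth.Ega43FP2.depthAt f F s z = d
    rw [← WithBot.coe_add, WithBot.coe_inj]
    cases d using ENat.recTopCoe with
    | top => simp
    | coe d => simp [← Nat.cast_add]
  have hD : ∀ s : S, (fun T : Set ↥(CohB1.support ((Scheme.Modules.pullback (f.fiberι s)).obj F)) =>
      topologicalKrullDim ↥T) '' irreducibleComponents ↥(CohB1.support ((Scheme.Modules.pullback (f.fiberι s)).obj F)) =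
      (fun z : f.fiber s => ((Order.height z : ℕ∞) : WithBot ℕ∞)) ''
        {z | f.fiberι s z ∈ Z ∧ ∀ v, f.fiberι s v ∈ Z → v ⤳ z → v = z} := by
    intro s
    let T := CohB1.support ((Scheme.Modules.pullback (f.fiberι s)).obj F)
    have hcl : IsClosed T := by
      have h := (Groth.Ega43FP2.isClosed_support F hFT).preimage (f.fiberι s).continuous
      rw [← Groth.QCohMod.support_pullback (f.fiberι s) F hFT] at h
      exact h
    have hdim : ∀ η ∈ Set.range (Subtype.val : T → f.fiber s),
        topologicalKrullDim ↥(closure ({η} : Set ↥(f.fiber s)) ∩ Set.range (Subtype.val : T → f.fiber s)) =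
        ((Order.height η : ℕ∞) : WithBot ℕ∞) := by
      intro η hη
      rw [Subtype.range_coe] at hη ⊢
      rw [Set.inter_eq_left.2 (closure_minimal (Set.singleton_subset_iff.2 hη) hcl)]
      exact Groth.Ega43FP2.clDimAt_eq f s η
    rw [image_dim_irreducibleComponents (Subtype.val : T → f.fiber s) IsEmbedding.subtypeVal
      (by rw [Subtype.range_coe]; exact hcl.isLocallyClosed) _ hdim, Subtype.range_coe]
    refine congrArg _ (Set.ext fun z => ?_)
    simp only [Set.mem_ofPred_eq, hmem, T]
  simp only [hD]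
  refine isLocallyConstructible_levelSet _ (fun τ => ?_) (fun {O} hO => ?_) Φ
  · convert f.isLocallyConstructible_image (isLocallyConstructible_componentDimAbove f hZ τ) using 1
    ext s
    rw [mem_image_componentDimAbove_iff]
    simp only [Set.mem_ofPred_eq, Set.mem_image]
    exact exists_congr fun z => and_congr_right fun _ => WithBot.coe_inj
  · obtain ⟨N, hN⟩ := exists_height_bound_preimage f hO
    refine ⟨N, ?_⟩
    rintro s hs _ ⟨z, -, rfl⟩
    obtain ⟨t, ht⟩ := Groth.Ega43FP2.exists_height_eq_nat f s z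
    exact ⟨t, Nat.cast_le.1 (ht ▸ hN s z hs), by simp [ht]⟩

omit [LocallyOfFinitePresentation f] [QuasiCompact f] in
/-- A locally constructible set containing the generic point contains a neighbourhood of it. -/
theorem exists_opens_subset_of_genericPoint_mem [IrreducibleSpace S] {E : Set S} (hE : IsLocallyConstructible E)
    (hη : genericPoint S ∈ E) : ∃ U : S.Opens, genericPoint S ∈ U ∧ (U : Set S) ⊆ E := by
  obtain ⟨O, hO, hηO, -⟩ := exists_isAffineOpen_mem_and_subset (U := (⊤ : S.Opens)) (x := genericPoint S) trivial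
  have hc := (hE.preimage_of_isOpenEmbedding hO.fromSpec.isOpenEmbedding).isConstructible
  obtain ⟨w, hw⟩ : genericPoint S ∈ Set.range hO.fromSpec := hO.range_fromSpec.ge hηO
  have hwgen : ∀ v, w ⤳ v := fun v => by
    rw [← hO.fromSpec.isOpenEmbedding.toIsInducing.specializes_iff, hw]
    exact genericPoint_specializes _
  have hd : closure ({w} : Set ↥(Spec Γ(S, O))) = Set.univ :=
    Set.eq_univ_of_forall fun v => specializes_iff_mem_closure.1 (hwgen v)
  have hirr : IsIrreducible (Set.univ : Set ↥(Spec Γ(S, O))) := hd ▸ isIrreducible_singleton.closure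
  obtain ⟨V, hV, hVne, hVE⟩ := Groth.SpectralTopology.exists_open_of_dense hc hirr (by
    rw [← hd]
    refine closure_mono (Set.singleton_subset_iff.2 ⟨?_, subset_closure rfl⟩)
    show hO.fromSpec w ∈ E
    rw [hw]
    exact hη)
  refine ⟨⟨hO.fromSpec '' V, hO.fromSpec.isOpenEmbedding.isOpenMap _ hV⟩, ⟨w, ?_, hw⟩, ?_⟩
  · obtain ⟨v, hv, -⟩ := hVne
    exact (hwgen v).mem_open hV hv
  · rintro _ ⟨v, hv, rfl⟩
    exact hVE ⟨hv, trivial⟩

end Groth.Ega43Geom
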