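import Mathlib
import Groth.Agent.Ega43Geom.ConsBase
import Groth.Agent.S1576
import Groth.Agent.QCohMod.PullbackQCoh

/-!
# Associated points of the fibres near the generic fibre
-/

set_option autoImplicit false
set_option linter.style.haveILetI false
set_option linter.unusedSectionVars false
universe u

open CategoryTheory CategoryTheory.Limits AlgebraicGeometry Topology

set_option synthInstance.maxHeartbeats 400000
set_option maxHeartbeats 1600000

namespace Groth.Ega43Geom.AssGeneric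

variable {X S : Scheme.{u}} (f : X ⟶ S) [LocallyOfFinitePresentation f] (F : X.Modules) [F.IsQuasicoherent]

/-- The maximal points of `Z` in the fibre `y`. -/
def maxIn (Z : Set X) (y : S) : Set (f.fiber y) :=
  {z : f.fiber y | z ∈ (f.fiberι y).base ⁻¹' Z ∧ ∀ z' ∈ (f.fiberι y).base ⁻¹' Z, z' ⤳ z → z' = z}

/-- No associated point of the fibre properly generizes `z`. -/
def IsTopAss (y : S) (z : f.fiber y) : Prop :=
  ∀ w, Groth.Ega43FP2.depthAt f F y w = 0 → w ⤳ z → w = z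

/-- Points of `Z` without generization in `Z` of height above `τ`. -/
def maxSet (Z : Set X) (τ : ℕ) : Set X := Z ∩ (htSet f Z (τ + 1))ᶜ

/-- Points with an associated generization of height in `(τ, N]`. -/
def genAss (τ N : ℕ) : Set X := ⋃ τ' ∈ Set.Ioc τ N, htSet f (lowSet f F (τ' + 1)) τ'

theorem height_lt_of_ne {y : S} {z v : f.fiber y} (hvz : v ⤳ z) (hne : v ≠ z) : Order.height z < Order.height v := by
  have hlt : z < v := lt_of_le_not_ge (Scheme.le_iff_specializes.2 hvz)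
    fun h => hne ((Scheme.le_iff_specializes.1 h).antisymm hvz).eq.symm
  obtain ⟨a, ha⟩ := Groth.Ega43FP2.exists_height_eq_nat f y z
  exact Order.height_strictMono hlt (by rw [ha]; exact ENat.natCast_lt_top a)

theorem mem_maxSet_iff (Z : Set X) (τ : ℕ) (y : S) (z : f.fiber y) :
    f.fiberι y z ∈ maxSet f Z τ ∧ (τ : ℕ∞) ≤ Order.height z ↔
      z ∈ maxIn f Z y ∧ Order.height z = (τ : ℕ∞) := by
  constructor
  · rintro ⟨⟨hzZ, hzH⟩, hτ⟩
    rw [Set.mem_compl_iff, mem_htSet_fiberι] at hzH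
    have hle : ∀ v, f.fiberι y v ∈ Z → v ⤳ z → Order.height v ≤ (τ : ℕ∞) := fun v hv hvz => by
      obtain ⟨b, hb⟩ := Groth.Ega43FP2.exists_height_eq_nat f y v
      rw [hb, Nat.cast_le]
      by_contra hlt
      exact hzH ⟨v, hvz, hv, by rw [hb, Nat.cast_le]; omega⟩
    have hzτ := le_antisymm (hle z hzZ specializes_rfl) hτ
    refine ⟨⟨hzZ, fun v hv hvz => ?_⟩, hzτ⟩
    by_contra hne
    have h := height_lt_of_ne f hvz hne
    rw [hzτ] at h
    exact absurd (hle v hv hvz) (not_le.2 h)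
  · rintro ⟨⟨hzZ, hmax⟩, hh⟩
    refine ⟨⟨hzZ, ?_⟩, hh.ge⟩
    rw [Set.mem_compl_iff, mem_htSet_fiberι]
    rintro ⟨v, hvz, hvZ, hvτ⟩
    rw [hmax v hvZ hvz, hh, Nat.cast_le] at hvτ
    omega

theorem not_mem_genAss_iff (y : S) (z : f.fiber y) (τ N : ℕ) (hz : Order.height z = (τ : ℕ∞))
    (hN : ∀ w : f.fiber y, Order.height w ≤ (N : ℕ∞)) :
    f.fiberι y z ∉ genAss f F τ N ↔ IsTopAss f F y z := by
  simp only [genAss, Set.mem_iUnion, mem_htSet_fiberι, exists_prop, not_exists, not_and]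
  constructor
  · intro h w hd hwz
    by_contra hne
    obtain ⟨b, hb⟩ := Groth.Ega43FP2.exists_height_eq_nat f y w
    have hlt := height_lt_of_ne f hwz hne
    rw [hz, hb, Nat.cast_lt] at hlt
    exact h b ⟨hlt, Nat.cast_le.1 (hb ▸ hN w)⟩ w hwz ((mem_lowSet_and_height_iff f F b y w).2 ⟨hd, hb⟩).1 hb.ge
  · intro h b hb w hwz hwL hbw
    obtain ⟨hd, hwb⟩ := (mem_lowSet_and_height_iff f F b y w).1 ⟨hwL, hbw⟩
    rw [h w hd hwz, hz, Nat.cast_inj] at hwb
    exact absurd hb.1 (by omega)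

theorem isConstructible_preimage_genAss (hF : CohB1.IsFP F) {W : X.Opens} (hW : IsAffineOpen W) {O : S.Opens}
    (hO : IsAffineOpen O) (hWO : W ≤ f ⁻¹ᵁ O) (τ N : ℕ) : IsConstructible (hW.fromSpec ⁻¹' genAss f F τ N) := by
  simp only [genAss, Set.preimage_iUnion]
  exact IsConstructible.biUnion (Set.finite_Ioc τ N) fun τ' _ =>
    isConstructible_preimage_htSet f hW hO hWO _ (isConstructible_preimage_lowSet f F hF hW _) τ'

theorem isConstructible_preimage_maxSet {W : X.Opens} (hW : IsAffineOpen W) {O : S.Opens}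
    (hO : IsAffineOpen O) (hWO : W ≤ f ⁻¹ᵁ O) {Z : Set X} (hZ : IsConstructible (hW.fromSpec ⁻¹' Z)) (τ : ℕ) :
    IsConstructible (hW.fromSpec ⁻¹' maxSet f Z τ) := by
  rw [maxSet, Set.preimage_inter, Set.preimage_compl]
  exact hZ.inter (isConstructible_preimage_htSet f hW hO hWO _ hZ _).compl

variable [QuasiCompact f]

theorem exists_nhd [IrreducibleSpace S] [IsLocallyNoetherian S] (hF : CohB1.IsFP F) :
    ∃ U : S.Opens, genericPoint S ∈ U ∧ ∀ s ∈ U,
      (AssSch.Ass ((Scheme.Modules.pullback (f.fiberι s)).obj F) =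
          ⋃ x ∈ AssSch.Ass ((Scheme.Modules.pullback (f.fiberι (genericPoint S))).obj F),
            maxIn f (closure {(f.fiberι (genericPoint S)).base x}) s) ∧
      (∀ x ∈ AssSch.Ass ((Scheme.Modules.pullback (f.fiberι (genericPoint S))).obj F),
        ∀ x' ∈ AssSch.Ass ((Scheme.Modules.pullback (f.fiberι (genericPoint S))).obj F), x ≠ x' →
          Disjoint (maxIn f (closure {(f.fiberι (genericPoint S)).base x}) s)
            (maxIn f (closure {(f.fiberι (genericPoint S)).base x'}) s)) ∧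
      (∀ x ∈ AssSch.Ass ((Scheme.Modules.pullback (f.fiberι (genericPoint S))).obj F),
        ∀ z ∈ maxIn f (closure {(f.fiberι (genericPoint S)).base x}) s,
          (IsTopAss f F s z ↔ IsTopAss f F (genericPoint S) x)) := by
  classical
  have hFT := Groth.PropsBasic.LocFree.isFT_of_isFP F hF
  let η := genericPoint S
  haveI : IsLocallyNoetherian (f.fiber η) := Groth.Ega43FP2.isLocallyNoetherian_fibre f η
  haveI : IsLocallyNoetherian X := LocallyOfFiniteType.isLocallyNoetherian f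
  let T := AssSch.Ass ((Scheme.Modules.pullback (f.fiberι η)).obj F)
  have hT : T.Finite := by
    refine (Groth.Agent.S1576.result (f.fiber η) _
      ⟨inferInstance, Groth.QCohMod.isFT_pullback (f.fiberι η) F hFT⟩ ⊤ ?_).subset fun x hx => ⟨trivial, hx⟩
    exact CompactSpace.isCompact_univ
  let Z : f.fiber η → Set X := fun x => closure {(f.fiberι η).base x}
  obtain ⟨O, hO, hηO, -⟩ := exists_isAffineOpen_mem_and_subset (U := (⊤ : S.Opens)) (x := η) trivial
  obtain ⟨N, hN⟩ := exists_height_bound_preimage f hO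
  let M : ℕ → Set X := fun τ => ⋃ x ∈ T, maxSet f (Z x) τ
  let Bad : ℕ → Set X := fun τ =>
    (M τ ∩ (lowSet f F (τ + 1))ᶜ) ∪ (lowSet f F (τ + 1) ∩ (M τ)ᶜ) ∪
      (⋃ x ∈ T, ⋃ x' ∈ T \ {x}, maxSet f (Z x) τ ∩ maxSet f (Z x') τ) ∪
      ⋃ x ∈ T, maxSet f (Z x) τ ∩
        (if IsTopAss f F η x then genAss f F τ N else (genAss f F τ N)ᶜ)
  have hBad : ∀ τ, IsLocallyConstructible (htSet f (Bad τ) τ) := fun τ => by
    refine Groth.Ega43FP2.isLocallyConstructible_of_charts f _ fun {W} hW {O'} hO' hWO => ?_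
    refine isConstructible_preimage_htSet f hW hO' hWO _ ?_ τ
    haveI : IsNoetherianRing Γ(X, W) := IsLocallyNoetherian.component_noetherian ⟨W, hW⟩
    have hL := isConstructible_preimage_lowSet f F hF hW (τ + 1)
    have hG := isConstructible_preimage_genAss f F hF hW hO' hWO τ N
    have hZ : ∀ x, IsConstructible (hW.fromSpec ⁻¹' maxSet f (Z x) τ) := fun x => by
      refine isConstructible_preimage_maxSet f hW hO' hWO ?_ τ
      exact (TopologicalSpace.NoetherianSpace.isCompact _).isConstructible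
        ((isClosed_closure.preimage hW.fromSpec.continuous).isOpen_compl) |>.compl |> fun h => by
          rwa [compl_compl] at h
    have hM : IsConstructible (hW.fromSpec ⁻¹' M τ) := by
      simp only [M, Set.preimage_iUnion]
      exact IsConstructible.biUnion hT fun x _ => hZ x
    simp only [Bad, Set.preimage_union, Set.preimage_inter, Set.preimage_compl, Set.preimage_iUnion]
    refine (((hM.inter hL.compl).union (hL.inter hM.compl)).union ?_).union ?_
    · exact IsConstructible.biUnion hT fun x _ => IsConstructible.biUnion (hT.subset Set.sdiff_subset)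
        fun x' _ => (hZ x).inter (hZ x')
    · refine IsConstructible.biUnion hT fun x _ => (hZ x).inter ?_
      split_ifs
      · exact hG
      · rw [Set.preimage_compl]; exact hG.compl
  let Good : Set S := {s | ∀ (z : f.fiber s) (τ : ℕ), τ ≤ N → (τ : ℕ∞) ≤ Order.height z → f.fiberι s z ∉ Bad τ}
  have hGood : IsLocallyConstructible Good := by
    refine isLocallyConstructible_of_affine _ fun {O'} hO' => ?_
    convert! (IsConstructible.biUnion (Set.finite_Iic N) fun τ _ =>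
      ((f.isLocallyConstructible_image (hBad τ)).preimage_of_isOpenEmbedding
        hO'.fromSpec.isOpenEmbedding).isConstructible).compl using 1
    ext v
    simp only [Set.mem_preimage, Set.mem_compl_iff, Set.mem_iUnion, Good, Set.mem_ofPred_eq, not_exists]
    generalize hO'.fromSpec v = s
    constructor
    · rintro h τ hτ ⟨x, ⟨z, -, hzB, hz⟩, rfl⟩
      exact h z τ hτ hz hzB
    · intro h z τ hτ hz hzB
      exact h τ hτ ⟨f.fiberι s z, (mem_htSet_fiberι f _ τ s z).2 ⟨z, specializes_rfl, hzB, hz⟩,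
        Groth.FibreDim.apply_fiberι f s z⟩
  have key : ∀ s ∈ O, s ∈ Good ↔ ∀ z : f.fiber s,
      ((Groth.Ega43FP2.depthAt f F s z = 0 ↔ ∃ x ∈ T, z ∈ maxIn f (Z x) s) ∧
      (∀ x ∈ T, ∀ x' ∈ T, x ≠ x' → ¬ (z ∈ maxIn f (Z x) s ∧ z ∈ maxIn f (Z x') s)) ∧
      (∀ x ∈ T, z ∈ maxIn f (Z x) s → (IsTopAss f F s z ↔ IsTopAss f F η x))) := by
    intro s hs
    have hL : ∀ (z : f.fiber s) (τ : ℕ), (τ : ℕ∞) ≤ Order.height z →
        (f.fiberι s z ∈ lowSet f F (τ + 1) ↔ Groth.Ega43FP2.depthAt f F s z = 0 ∧ Order.height z = (τ : ℕ∞)) :=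
      fun z τ hτ => (and_iff_left hτ).symm.trans (mem_lowSet_and_height_iff f F τ s z)
    have hZ : ∀ (z : f.fiber s) (τ : ℕ), (τ : ℕ∞) ≤ Order.height z → ∀ x,
        (f.fiberι s z ∈ maxSet f (Z x) τ ↔ z ∈ maxIn f (Z x) s ∧ Order.height z = (τ : ℕ∞)) :=
      fun z τ hτ x => (and_iff_left hτ).symm.trans (mem_maxSet_iff f (Z x) τ s z)
    constructor
    · intro h z
      obtain ⟨τ, hτ⟩ := Groth.Ega43FP2.exists_height_eq_nat f s z
      have hB := h z τ (Nat.cast_le.1 (hτ ▸ hN s z hs)) hτ.ge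
      simp only [Bad, M, Set.mem_union, Set.mem_inter_iff, Set.mem_compl_iff, Set.mem_iUnion, Set.mem_sdiff,
        Set.mem_singleton_iff, exists_prop, hL z τ hτ.ge, hZ z τ hτ.ge, hτ, and_true, not_or, not_exists,
        not_and, not_not] at hB
      obtain ⟨⟨⟨h1, h2⟩, h3⟩, h4⟩ := hB
      refine ⟨⟨fun hd => ?_, fun hM => h1 hM⟩, fun x hx x' hx' hne hzz => ?_, fun x hx hxz => ?_⟩
      · by_contra hne
        exact h2 hd fun x hx hxz => hne ⟨x, hx, hxz⟩
      · exact h3 x hx x' ⟨hx', Ne.symm hne⟩ hzz.1 hzz.2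
      · have := h4 x hx hxz
        split_ifs at this with hxT
        · exact iff_of_true ((not_mem_genAss_iff f F s z τ N hτ fun w => hN s w hs).1 this) hxT
        · rw [Set.mem_compl_iff, not_mem_genAss_iff f F s z τ N hτ fun w => hN s w hs] at this
          exact iff_of_false this hxT
    · intro h z τ _ hτ hzB
      obtain ⟨h1, h2, h3⟩ := h z
      simp only [Bad, M, Set.mem_union, Set.mem_inter_iff, Set.mem_compl_iff, Set.mem_iUnion, Set.mem_sdiff,
        Set.mem_singleton_iff, exists_prop, hL z τ hτ, hZ z τ hτ] at hzB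
      rcases hzB with ((⟨⟨x, hx, hxz, hh⟩, hd⟩ | ⟨⟨hd, hh⟩, hx⟩) | ⟨x, hx, x', ⟨hx', hne⟩, ⟨hxz, -⟩, hxz', -⟩) |
        ⟨x, hx, ⟨hxz, hh⟩, hg⟩
      · exact hd ⟨h1.2 ⟨x, hx, hxz⟩, hh⟩
      · obtain ⟨x, hx', hxz⟩ := h1.1 hd
        exact hx ⟨x, hx', hxz, hh⟩
      · exact h2 x hx x' hx' (Ne.symm hne) ⟨hxz, hxz'⟩
      · split_ifs at hg with hxT
        · exact (not_mem_genAss_iff f F s z τ N hh fun w => hN s w hs).2 ((h3 x hx hxz).2 hxT) hg
        · exact hxT ((h3 x hx hxz).1 ((not_mem_genAss_iff f F s z τ N hh fun w => hN s w hs).1 hg))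
  have hηmax : ∀ z x : f.fiber η, z ∈ maxIn f (Z x) η ↔ z = x := by
    intro z x
    have hmem : ∀ w : f.fiber η, w ∈ (f.fiberι η).base ⁻¹' Z x ↔ x ⤳ w := fun w =>
      specializes_iff_mem_closure.symm.trans (f.fiberι η).isEmbedding.toIsInducing.specializes_iff
    constructor
    · rintro ⟨hz, hmax⟩
      exact (hmax x ((hmem x).2 specializes_rfl) ((hmem z).1 hz)).symm
    · rintro rfl
      exact ⟨(hmem z).2 specializes_rfl, fun w hw hwz => (hwz.antisymm ((hmem w).1 hw)).eq⟩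
  have hηGood : η ∈ Good := (key η hηO).2 fun z => by
    refine ⟨⟨fun hd => ⟨z, (Groth.Ega43FP2.mem_ass_fibre_iff f F hFT η z).2 hd, (hηmax z z).2 rfl⟩, ?_⟩, ?_, ?_⟩
    · rintro ⟨x, hx, hxz⟩
      rw [(hηmax z x).1 hxz]
      exact (Groth.Ega43FP2.mem_ass_fibre_iff f F hFT η x).1 hx
    · rintro x - x' - hne ⟨h, h'⟩
      exact hne (((hηmax z x).1 h).symm.trans ((hηmax z x').1 h'))
    · intro x _ hxz
      rw [(hηmax z x).1 hxz]
  obtain ⟨U, hηU, hU⟩ := exists_opens_subset_of_genericPoint_mem hGood hηGood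
  refine ⟨U ⊓ O, ⟨hηU, hηO⟩, fun s hs => ?_⟩
  have h := (key s hs.2).1 (hU hs.1)
  refine ⟨?_, fun x hx x' hx' hne => Set.disjoint_left.2 fun z hz hz' => (h z).2.1 x hx x' hx' hne ⟨hz, hz'⟩,
    fun x hx z hz => (h z).2.2 x hx hz⟩
  ext z
  rw [Groth.Ega43FP2.mem_ass_fibre_iff f F hFT, (h z).1, Set.mem_iUnion₂]
  exact ⟨fun ⟨x, hx, hxz⟩ => ⟨x, hx, hxz⟩, fun ⟨x, hx, hxz⟩ => ⟨x, hx, hxz⟩⟩

end Groth.Ega43Geom.AssGeneric
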