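import Mathlib
import Groth.Prelude.Def_CInt
import Groth.Agent.Ega43Geom.FibreHeight
import Groth.Agent.Ega43FP2.AssFibre
import Groth.Agent.Ega43FP2.DepthConstructible
import Groth.Agent.PropsBasic.LocFree
import Groth.Agent.LocCohTransform.AdjDepth

/-!
# Constructibility of the depth of the fibre modules along a subset
-/

set_option autoImplicit false
set_option linter.style.haveILetI false
set_option linter.unusedSectionVars false
universe u

open CategoryTheory AlgebraicGeometry Topology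

set_option synthInstance.maxHeartbeats 400000
set_option maxHeartbeats 1600000

namespace Groth.Ega43Geom

variable {X S : Scheme.{u}} (f : X ⟶ S) [LocallyOfFinitePresentation f] (F : X.Modules) [F.IsQuasicoherent]

/-- The fibre depth along a subset, through the generizations in the fibre. -/
theorem le_fiberDepthAlong_iff (Y : Set X) (n : ℕ∞) (x : X) :
    n ≤ CInt.fiberDepthAlong f F Y x ↔ ∀ z : f.fiber (f.base x), z ⤳ f.asFiber x → f.fiberι _ z ∈ Y →
      n ≤ Groth.Ega43FP2.depthAt f F _ z := by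
  have hd : ∀ (z : f.fiber (f.base x)), Groth.Ega43FP2.depthAt f F _ z = CInt.fiberDepth f F (f.fiberι _ z) :=
    fun z => (Groth.Ega43FP2.apply_asFiber_eq f F
      (fun d _ _ => d = CInt.fiberDepth f F (f.fiberι _ z)) _ z).2 rfl
  rw [CInt.fiberDepthAlong, le_iInf_iff]
  constructor
  · intro h z hz hzY
    rw [hd z]
    exact h ⟨f.fiberι _ z, hzY, by
      have := hz.map (f.fiberι _).continuous
      rwa [f.fiberι_asFiber] at this, Groth.FibreDim.apply_fiberι f _ z⟩
  · rintro h ⟨w, hw, hwy, hfw⟩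
    obtain ⟨z, rfl⟩ : w ∈ Set.range (f.fiberι (f.base x)) := (f.range_fiberι _).ge hfw
    rw [← hd z]
    refine h z ((f.fiberι _).isEmbedding.toIsInducing.specializes_iff.1 ?_) hw
    rwa [f.fiberι_asFiber]

theorem eq_top_or_depthAt_le (hF : CohB1.IsFP F) {W : X.Opens} {N : ℕ}
    (hN : ∀ (y : S) (w : f.fiber y), f.fiberι y w ∈ W → Order.height w ≤ (N : ℕ∞))
    (y : S) (z : f.fiber y) (hz : f.fiberι y z ∈ W) :
    Groth.Ega43FP2.depthAt f F y z = ⊤ ∨ Groth.Ega43FP2.depthAt f F y z ≤ (N : ℕ∞) := by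
  by_cases hbot : Groth.Ega43FP2.suppAt f F y z = ⊥
  · left
    haveI := (Module.supportDim_eq_bot_iff_subsingleton _ _).1 hbot
    exact Groth.LocCohTransform.depth_eq_top_of_subsingleton _
  · right
    obtain ⟨t, ht⟩ := Groth.Ega43FP2.exists_height_eq_nat f y z
    have h1 := (Groth.Ega43FP2.depthAt_le_suppAt f F (Groth.PropsBasic.LocFree.isFT_of_isFP F hF) hbot).trans
      (Module.supportDim_le_ringKrullDim _ _)
    have h2 : ringKrullDim ((f.fiber y).presheaf.stalk z) ≤ (N : ℕ) := by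
      rw [ringKrullDim_fibre_stalk_le_iff f y z ht]
      intro w hw
      refine (hN y w ((hw.map (f.fiberι y).continuous).mem_open W.isOpen hz)).trans ?_
      rw [Nat.cast_le]
      exact Nat.le_add_right N t
    exact WithBot.coe_le_coe.1 (h1.trans h2)

theorem isConstructible_preimage_le_fiberDepthAlong (hF : CohB1.IsFP F) {W : X.Opens} (hW : IsAffineOpen W)
    {O : S.Opens} (hO : IsAffineOpen O) (hWO : W ≤ f ⁻¹ᵁ O) (Y : Set X)
    (hY : IsConstructible (hW.fromSpec ⁻¹' Y)) (n : ℕ) :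
    IsConstructible (hW.fromSpec ⁻¹' {x | (n : ℕ∞) ≤ CInt.fiberDepthAlong f F Y x}) := by
  obtain ⟨N, hN⟩ := Groth.FibreDim.exists_height_bound_of_affine f hO hW hWO
  let Eq : ℕ → Set X := fun k => {x : X | (Groth.Ega43FP2.depthAt f F _ (f.asFiber x) : WithBot ℕ∞) +
    Groth.Ega43FP2.clDimAt f _ (f.asFiber x) = ((k : ℕ∞) : WithBot ℕ∞)}
  let Low : ℕ → Set X := fun m => ⋃ k ∈ Set.Iio m, Eq k
  have hEq : ∀ k, IsConstructible (hW.fromSpec ⁻¹' Eq k) := fun k =>
    ((Groth.Ega43FP2.isLocallyConstructible_depth_add_eq f F hF k).preimage_of_isOpenEmbedding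
      hW.fromSpec.isOpenEmbedding).isConstructible
  have hLow : ∀ m, IsConstructible (hW.fromSpec ⁻¹' Low m) := fun m => by
    simp only [Low, Set.preimage_iUnion]
    exact IsConstructible.biUnion (Set.finite_Iio m) fun k _ => hEq k
  have hmem : ∀ (m : ℕ) (y : S) (z : f.fiber y), f.fiberι y z ∈ Low m ↔
      ∃ k < m, (Groth.Ega43FP2.depthAt f F y z : WithBot ℕ∞) + ((Order.height z : ℕ∞) : WithBot ℕ∞) =
        ((k : ℕ∞) : WithBot ℕ∞) := by
    intro m y z
    simp only [Low, Eq, Set.mem_iUnion, Set.mem_Iio, Set.mem_ofPred_eq, exists_prop]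
    refine exists_congr fun k => and_congr_right fun _ => ?_
    rw [← Groth.Ega43FP2.clDimAt_eq f y z]
    exact (Groth.Ega43FP2.apply_asFiber_eq f F
      (fun d _ t => (d : WithBot ℕ∞) + t = ((k : ℕ∞) : WithBot ℕ∞)) y z).symm
  have hbad : ∀ τ, IsConstructible (hW.fromSpec ⁻¹' htSet f (Y ∩ Low (τ + n)) τ) := fun τ => by
    refine isConstructible_preimage_htSet f hW hO hWO _ ?_ τ
    rw [Set.preimage_inter]
    exact hY.inter (hLow _)
  convert! (IsConstructible.biUnion (Set.finite_Iic N) fun τ _ => hbad τ).compl using 1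
  ext w
  have hxW : hW.fromSpec w ∈ W := hW.range_fromSpec.subset ⟨w, rfl⟩
  simp only [Set.mem_preimage, Set.mem_ofPred_eq, Set.mem_compl_iff, Set.mem_iUnion, not_exists]
  generalize hW.fromSpec w = x at hxW ⊢
  rw [le_fiberDepthAlong_iff]
  constructor
  · rintro h τ - ⟨z, hz, ⟨hzY, hzL⟩, hτ⟩
    obtain ⟨k, hk, hkeq⟩ := (hmem _ _ z).1 hzL
    obtain ⟨t, ht⟩ := Groth.Ega43FP2.exists_height_eq_nat f _ z
    have h1 := h z hz hzY
    rw [ht, ← WithBot.coe_add, WithBot.coe_inj] at hkeq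
    rw [ht, Nat.cast_le] at hτ
    revert h1 hkeq
    generalize Groth.Ega43FP2.depthAt f F _ z = d
    cases d using ENat.recTopCoe with
    | top => intro hk' _; rw [top_add] at hk'; exact absurd hk'.symm (ENat.natCast_ne_top k)
    | coe d => intro hk' h1; norm_cast at hk' h1; omega
  · intro h z hz hzY
    obtain ⟨t, ht⟩ := Groth.Ega43FP2.exists_height_eq_nat f _ z
    have hzW : f.fiberι _ z ∈ W := by
      have := hz.map (f.fiberι _).continuous
      rw [f.fiberι_asFiber] at this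
      exact this.mem_open W.isOpen hxW
    have htN : t ≤ N := Nat.cast_le.1 (ht ▸ hN _ z hzW)
    by_contra hlt
    obtain ⟨d, hd⟩ := ENat.ne_top_iff_exists.1 (ne_top_of_lt (not_le.1 hlt))
    rw [← hd, Nat.cast_le] at hlt
    refine h t htN ⟨z, hz, ⟨hzY, (hmem _ _ z).2 ⟨d + t, by omega, ?_⟩⟩, ht.ge⟩
    rw [← hd, ht, ← WithBot.coe_add, Nat.cast_add]

end Groth.Ega43Geom
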