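import Mathlib
import Groth.Agent.Ega43Geom.Open
import Groth.Agent.Ega43FP2.EquidimFibre

/-!
# Openness of geometrically `(R_m)`, equidimensional fibres without embedded cycles
-/

set_option autoImplicit false
set_option linter.style.haveILetI false
universe u

open CategoryTheory CategoryTheory.Limits AlgebraicGeometry IsLocalRing

set_option synthInstance.maxHeartbeats 400000
set_option maxHeartbeats 3200000

namespace Groth.Ega43Geom

variable {X Y : Scheme.{u}} (f : X ⟶ Y) [LocallyOfFinitePresentation f]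

/-- All maximal points of the fibre above `z` have closures of dimension `τ`. -/
def MaxHeight (τ : ℕ) (y : Y) (z : f.fiber y) : Prop :=
  ∀ w : f.fiber y, w ⤳ z → (∀ v, v ⤳ w → v = w) → Order.height w = (τ : ℕ∞)

theorem exists_max_generization (y : Y) (z : f.fiber y) : ∃ w, w ⤳ z ∧ ∀ v, v ⤳ w → v = w := by
  obtain ⟨η, hη⟩ := QuasiSober.sober (isIrreducible_irreducibleComponent (x := z)) isClosed_irreducibleComponent
  refine ⟨η, hη.specializes mem_irreducibleComponent, fun w hw => ?_⟩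
  have h1 : irreducibleComponent z ⊆ closure {w} :=
    hη.def ▸ closure_minimal (Set.singleton_subset_iff.mpr (specializes_iff_mem_closure.mp hw)) isClosed_closure
  have h2 := (irreducibleComponent_mem_irreducibleComponents z).2 isIrreducible_singleton.closure h1
  exact (show IsGenericPoint w (irreducibleComponent z) from le_antisymm h2 h1).eq hη

theorem minimalPrimes_iff_maximal (y : Y) (z : f.fiber y) (q : PrimeSpectrum ((f.fiber y).presheaf.stalk z)) :
    q.asIdeal ∈ minimalPrimes ((f.fiber y).presheaf.stalk z) ↔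
      ∀ v, v ⤳ (f.fiber y).fromSpecStalk z q → v = (f.fiber y).fromSpecStalk z q := by
  have hemb := ((f.fiber y).fromSpecStalk z).isEmbedding
  have hgen : ∀ q, (f.fiber y).fromSpecStalk z q ⤳ z := fun q => by
    have : (f.fiber y).fromSpecStalk z q ∈ Set.range ((f.fiber y).fromSpecStalk z).base := ⟨q, rfl⟩
    rw [Scheme.range_fromSpecStalk] at this
    exact this
  constructor
  · intro hq v hvq
    obtain ⟨q', rfl⟩ : v ∈ Set.range ((f.fiber y).fromSpecStalk z).base := by
      rw [Scheme.range_fromSpecStalk]; exact hvq.trans (hgen q)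
    have h1 : q'.asIdeal ≤ q.asIdeal := (PrimeSpectrum.le_iff_specializes _ _).2 (hemb.toIsInducing.specializes_iff.1 hvq)
    rw [show q' = q from PrimeSpectrum.ext (le_antisymm h1 (hq.2 ⟨q'.2, bot_le⟩ h1))]
  · intro hmax
    refine ⟨⟨q.2, bot_le⟩, fun Q hQ hle => ?_⟩
    have := hmax _ (((PrimeSpectrum.le_iff_specializes (⟨Q, hQ.1⟩ : PrimeSpectrum _) q).1 hle).map
      ((f.fiber y).fromSpecStalk z).continuous)
    exact (congrArg PrimeSpectrum.asIdeal (hemb.injective this)).ge

theorem dim_quotient_of_maxHeight {τ : ℕ} {y : Y} {z : f.fiber y} (h : MaxHeight f τ y z) {t : ℕ}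
    (ht : Order.height z = (t : ℕ∞)) :
    t ≤ τ ∧ ringKrullDim ((f.fiber y).presheaf.stalk z) = ((τ - t : ℕ) : WithBot ℕ∞) ∧
      ∀ P ∈ minimalPrimes ((f.fiber y).presheaf.stalk z),
        ringKrullDim ((f.fiber y).presheaf.stalk z ⧸ P) = ((τ - t : ℕ) : WithBot ℕ∞) := by
  let R := (f.fiber y).presheaf.stalk z
  have hP : ∀ P ∈ minimalPrimes R, t ≤ τ ∧ ringKrullDim (R ⧸ P) = ((τ - t : ℕ) : WithBot ℕ∞) := by
    intro P hP
    let q : PrimeSpectrum R := ⟨P, hP.1.1⟩
    have hq : (f.fiber y).fromSpecStalk z q ⤳ z := by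
      have : (f.fiber y).fromSpecStalk z q ∈ Set.range ((f.fiber y).fromSpecStalk z).base := ⟨q, rfl⟩
      rw [Scheme.range_fromSpecStalk] at this
      exact this
    exact Groth.Ega43FP2.ringKrullDim_quotient_fibre f y z q ht
      (h _ hq ((minimalPrimes_iff_maximal f y z q).1 hP))
  obtain ⟨P, hPmin⟩ := Ideal.nonempty_minimalPrimes (I := (⊥ : Ideal R)) (by simp)
  refine ⟨(hP P hPmin).1, le_antisymm ?_ ?_, fun Q hQ => (hP Q hQ).2⟩
  · refine iSup_le fun l => ?_
    obtain ⟨Q, hQ, hQl⟩ := Ideal.exists_minimalPrimes_le (I := (⊥ : Ideal R)) (J := (l 0).asIdeal) bot_le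
    rw [← (hP Q hQ).2, ringKrullDim_quotient]
    let ψ : LTSeries ↥(PrimeSpectrum.zeroLocus (Q : Set R)) :=
      ⟨l.length, fun i => ⟨l i, fun r hr => (show l 0 ≤ l i from l.monotone (Fin.zero_le i)) (hQl hr)⟩,
        fun i => l.step i⟩
    exact Order.LTSeries.length_le_krullDim ψ
  · rw [← (hP P hPmin).2]
    exact ringKrullDim_le_of_surjective (Ideal.Quotient.mk P) Ideal.Quotient.mk_surjective

theorem isEquidim_fibre_iff (y : Y) (z : f.fiber y) :
    EGA4.IsEquidim ((f.fiber y).presheaf.stalk z) ↔ ∃ τ, MaxHeight f τ y z := by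
  obtain ⟨t, ht⟩ := Groth.Ega43FP2.exists_height_eq_nat f y z
  constructor
  · intro h
    obtain ⟨w₀, hw₀, hm₀⟩ := exists_max_generization f y z
    obtain ⟨b, hb⟩ := Groth.Ega43FP2.exists_height_eq_nat f y w₀
    refine ⟨b, fun w hw hm => ?_⟩
    obtain ⟨q, rfl⟩ : w ∈ Set.range ((f.fiber y).fromSpecStalk z).base := by
      rw [Scheme.range_fromSpecStalk]; exact hw
    obtain ⟨q₀, rfl⟩ : w₀ ∈ Set.range ((f.fiber y).fromSpecStalk z).base := by
      rw [Scheme.range_fromSpecStalk]; exact hw₀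
    obtain ⟨c, hc⟩ := Groth.Ega43FP2.exists_height_eq_nat f y ((f.fiber y).fromSpecStalk z q)
    obtain ⟨h1, h2⟩ := Groth.Ega43FP2.ringKrullDim_quotient_fibre f y z q ht hc
    obtain ⟨h3, h4⟩ := Groth.Ega43FP2.ringKrullDim_quotient_fibre f y z q₀ ht hb
    have h5 := (h _ ((minimalPrimes_iff_maximal f y z q).2 hm)).trans (h _ ((minimalPrimes_iff_maximal f y z q₀).2 hm₀)).symm
    rw [h2, h4, Nat.cast_inj] at h5
    rw [hc, Nat.cast_inj]
    omega
  · rintro ⟨τ, hτ⟩ P hP
    obtain ⟨-, h1, h2⟩ := dim_quotient_of_maxHeight f hτ ht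
    rw [h2 P hP, h1]

/-- `(R_m)` geometrically, equidimensional and without embedded cycles, for flat morphisms. -/
theorem isOpen_geomRk_equidim_noEmbedded [Flat f] (m : ℕ) : IsOpen {x : X |
    (∀ (K : Type u) [Field K] [Algebra (IsLocalRing.ResidueField (Y.presheaf.stalk (f.base x))) K],
        Module.Finite (IsLocalRing.ResidueField (Y.presheaf.stalk (f.base x))) K →
        ∀ x' : ↥(FBase.bc (f.fiberToSpecResidueField (f.base x)) K),
          (FBase.bcπ (f.fiberToSpecResidueField (f.base x)) K).base x' = f.asFiber x →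
          LocCoh.HasRk m ((FBase.bc (f.fiberToSpecResidueField (f.base x)) K).presheaf.stalk x')) ∧
      EGA4.IsEquidim ↑((f.fiber (f.base x)).presheaf.stalk (f.asFiber x)) ∧
      (∀ p ∈ associatedPrimes ↑((f.fiber (f.base x)).presheaf.stalk (f.asFiber x)) ↑((f.fiber (f.base x)).presheaf.stalk (f.asFiber x)), p ∈ minimalPrimes ↑((f.fiber (f.base x)).presheaf.stalk (f.asFiber x)))} := by
  let F := Coh.structureModule X
  haveI : F.IsQuasicoherent := Groth.QCohMod.isQCoh_unit X
  have hF : CohB1.IsFP F := Groth.Ega43FP2.isFP_structureModule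
  have hflat : FlatMod.IsFlatOver f F := fun x =>
    (Groth.Misc13.FlatBC.flat_stalkMap_iff_structure f x).2 (Flat.stalkMap f x)
  have hFT : CohB1.IsFT F := inferInstance
  let Sing : ℕ → Set X := fun _ => (f.smoothLocus : Set X)ᶜ
  convert isOpen_iUnion fun τ : ℕ => ((Groth.Ega43FP2.isOpen_flatAt_hasSk f 1).inter
    (Groth.Ega43FP2.isOpen_assDims f F hF hflat {τ})).inter
      (Groth.Ega43FP2.isOpen_forall_not_bad f Sing (fun _ => f.smoothLocus.2.isClosed_compl) {τ - m}) using 1
  ext x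
  haveI : IsLocallyNoetherian (f.fiber (f.base x)) :=
    LocallyOfFiniteType.isLocallyNoetherian (f.fiberToSpecResidueField (f.base x))
  let R := (f.fiber (f.base x)).presheaf.stalk (f.asFiber x)
  have hne : (∀ p ∈ associatedPrimes R R, p ∈ minimalPrimes R) ↔ LocCoh.HasSk 1 R R := by
    rw [Groth.Calg1.hasSk_one_iff, show Module.annihilator R R = ⊥ from Module.annihilator_eq_bot.2 inferInstance]
  simp only [Set.mem_ofPred_eq, Set.mem_iUnion, Set.mem_inter_iff, Set.mem_singleton_iff, forall_eq,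
    geomRk_fibre_iff, isEquidim_fibre_iff]
  have hass : LocCoh.HasSk 1 R R → ∀ τ : ℕ,
      ((∀ z ∈ AssSch.Ass ((Scheme.Modules.pullback (f.fiberι (f.base x))).obj F), f.asFiber x ∈ closure {z} →
        ∃ n, n = τ ∧ topologicalKrullDim ↥(closure ({z} : Set ↥(f.fiber (f.base x)))) = (n : WithBot ℕ∞)) ↔
        MaxHeight f τ _ (f.asFiber x)) := by
    intro hsk τ
    rw [Groth.Ega43FP2.hasSk_stalk_iff] at hsk
    have hdepth : ∀ z, z ∈ AssSch.Ass ((Scheme.Modules.pullback (f.fiberι (f.base x))).obj F) ↔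
        LocCoh.depth ((f.fiber (f.base x)).presheaf.stalk z) ((f.fiber (f.base x)).presheaf.stalk z) = 0 := fun z => by
      rw [Groth.Ega43FP2.mem_ass_fibre_iff f F hFT, (Groth.Ega43FP2.depthAt_suppAt_structure f _ z).1]
    constructor
    · intro h w hw hmax
      have hdim := Groth.Ega4b.ringKrullDim_stalk_eq_zero_of_maximal hmax
      haveI : IsNoetherianRing ((f.fiber (f.base x)).presheaf.stalk w) := inferInstance
      have hle := Groth.LocCohBase.depth_le_supportDim (R := (f.fiber (f.base x)).presheaf.stalk w)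
        ((f.fiber (f.base x)).presheaf.stalk w)
      rw [Module.supportDim_self_eq_ringKrullDim, hdim] at hle
      obtain ⟨n, rfl, hn⟩ := h w ((hdepth w).2 (nonpos_iff_eq_zero.1 (WithBot.coe_le_coe.1 hle)))
        (specializes_iff_mem_closure.1 hw)
      have := (Groth.Ega43FP2.clDimAt_eq f _ w).symm.trans hn
      rw [← WithBot.coe_natCast, WithBot.coe_inj] at this
      exact this
    · intro h z hz hzx
      have hzx' := specializes_iff_mem_closure.2 hzx
      have hs := hsk z hzx'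
      rw [Groth.Ega4b.SkLoc, (hdepth z).1 hz, min_le_iff] at hs
      obtain ⟨w, hw, hmax⟩ := exists_max_generization f _ z
      obtain rfl : w = z := by
        have h0 : ringKrullDim ((f.fiber (f.base x)).presheaf.stalk z) ≤ 0 :=
          hs.resolve_left (by norm_num)
        rw [ringKrullDim_stalk_eq_coheight, ← WithBot.coe_zero, WithBot.coe_le_coe, nonpos_iff_eq_zero,
          Order.coheight_eq_zero] at h0
        exact Scheme.le_iff_specializes.1 (h0 (Scheme.le_iff_specializes.2 hw)) |>.antisymm hw |>.eq.symm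
      exact ⟨τ, rfl, (Groth.Ega43FP2.clDimAt_eq f _ w).trans (by rw [h w hzx' hmax]; rfl)⟩
  have hsmooth : ∀ z : f.fiber (f.base x), f.fiberι _ z ∈ (f.smoothLocus : Set X)ᶜ ↔
      z ∉ (f.fiberToSpecResidueField (f.base x)).smoothLocus := fun z =>
    not_congr (mem_smoothLocus_fibre_iff f _ z (Flat.stalkMap f _))
  have hbad : LocCoh.HasSk 1 R R → ∀ τ, MaxHeight f τ _ (f.asFiber x) →
      (FibSmoothUpTo f m _ (f.asFiber x) ↔
        ∀ z : f.fiber (f.base x), f.fiberι _ z ∈ Sing (τ - m) → z ⤳ f.asFiber x →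
          ¬ ((τ - m : ℕ) : ℕ∞) ≤ Order.height z) := by
    intro _ τ hτ
    refine ⟨fun h z hzS hz hle => (hsmooth z).1 hzS (h z hz ?_), fun h z hz hd => ?_⟩
    · obtain ⟨t, ht⟩ := Groth.Ega43FP2.exists_height_eq_nat f _ z
      obtain ⟨-, hdim, -⟩ := dim_quotient_of_maxHeight f (fun w hw hm => hτ w (hw.trans hz) hm) ht
      rw [ht, Nat.cast_le] at hle
      rw [hdim, Nat.cast_le]
      omega
    · by_contra hns
      obtain ⟨t, ht⟩ := Groth.Ega43FP2.exists_height_eq_nat f _ z
      obtain ⟨-, hdim, -⟩ := dim_quotient_of_maxHeight f (fun w hw hm => hτ w (hw.trans hz) hm) ht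
      rw [hdim, Nat.cast_le] at hd
      exact h z ((hsmooth z).2 hns) hz (by rw [ht, Nat.cast_le]; omega)
  constructor
  · rintro ⟨hR, ⟨τ, hτ⟩, hne'⟩
    have hsk := hne.1 hne'
    exact ⟨τ, ⟨⟨Flat.stalkMap f x, hsk⟩, (hass hsk τ).2 hτ⟩, (hbad hsk τ hτ).1 hR⟩
  · rintro ⟨τ, ⟨⟨-, hsk⟩, hA⟩, hB⟩
    have hτ := (hass hsk τ).1 hA
    exact ⟨(hbad hsk τ hτ).2 hB, ⟨τ, hτ⟩, hne.2 hsk⟩

end Groth.Ega43Geom
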