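import Mathlib
import Groth.Agent.SpectralTopology.GenericExact
import Groth.Agent.SpectralTopology.Constructible

/-!
# The exactness locus of the fibres of a sequence of finitely presented modules is constructible
-/

set_option autoImplicit false
set_option linter.style.haveILetI false
set_option linter.unusedSectionVars false
universe u

open TensorProduct Topology Matrix

set_option synthInstance.maxHeartbeats 400000
set_option maxHeartbeats 1600000

namespace Groth.Ega43Geom.ExactLocus

section Matrix

variable (R : Type u) [CommRing R] {σ : Type} {α β γ δ : Type} [Fintype α] [Fintype β] [Fintype γ] [Fintype δ]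

/-- The `H`-valued second map of the sequence given by matrices. -/
noncomputable def snd (V : Matrix δ β (MvPolynomial σ R)) (W : Matrix δ γ (MvPolynomial σ R)) :
    (β → MvPolynomial σ R) →ₗ[MvPolynomial σ R] (δ → MvPolynomial σ R) ⧸ LinearMap.range W.mulVecLin :=
  (LinearMap.range W.mulVecLin).mkQ ∘ₗ V.mulVecLin

/-- Exactness of the sequence given by matrices after base change to `K`. -/
def ExactAt (U : Matrix β α (MvPolynomial σ R)) (V : Matrix δ β (MvPolynomial σ R))
    (W : Matrix δ γ (MvPolynomial σ R)) (K : Type u) [CommRing K] [Algebra R K] : Prop :=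
  Function.Exact ((U.mulVecLin.restrictScalars R).baseChange K) (((snd R V W).restrictScalars R).baseChange K)

/-- The same condition in terms of matrices. -/
def ExactMat {T T' : Type u} [CommRing T] [CommRing T'] (φ : T →+* T') (U : Matrix β α T) (V : Matrix δ β T)
    (W : Matrix δ γ T) : Prop :=
  ∀ x : β → T', (∃ z, W.map φ *ᵥ z = V.map φ *ᵥ x) ↔ ∃ y, U.map φ *ᵥ y = x

variable (K : Type u) [CommRing K] [Algebra R K]

/-- Tensoring a free module over a polynomial ring. -/
noncomputable def piEquiv (ι : Type) [Fintype ι] [DecidableEq ι] :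
    K ⊗[R] (ι → MvPolynomial σ R) ≃ₗ[K] (ι → MvPolynomial σ K) :=
  (TensorProduct.piRight R K K fun _ : ι => MvPolynomial σ R).trans
    (LinearEquiv.piCongrRight fun _ => (MvPolynomial.algebraTensorAlgEquiv R K).toLinearEquiv)

theorem piEquiv_tmul (ι : Type) [Fintype ι] [DecidableEq ι] (c : K) (x : ι → MvPolynomial σ R) (i : ι) :
    piEquiv R K ι (c ⊗ₜ x) i = c • MvPolynomial.map (algebraMap R K) (x i) := by
  simp [piEquiv, MvPolynomial.algebraTensorAlgEquiv_tmul]

theorem piEquiv_mulVec {ι ι' : Type} [Fintype ι] [DecidableEq ι] [Fintype ι'] [DecidableEq ι']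
    (M : Matrix ι' ι (MvPolynomial σ R)) (t : K ⊗[R] (ι → MvPolynomial σ R)) :
    piEquiv R K ι' ((M.mulVecLin.restrictScalars R).baseChange K t) =
      M.map (MvPolynomial.map (algebraMap R K)) *ᵥ piEquiv R K ι t := by
  induction t using TensorProduct.induction_on with
  | zero => simp
  | add a b ha hb => rw [map_add, map_add, ha, hb, map_add, Matrix.mulVec_add]
  | tmul c x =>
    funext i
    rw [LinearMap.baseChange_tmul, piEquiv_tmul, LinearMap.restrictScalars_apply, Matrix.mulVecLin_apply]
    simp only [Matrix.mulVec, dotProduct, piEquiv_tmul, Matrix.map_apply, map_sum, map_mul, Finset.smul_sum,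
      mul_smul_comm]

theorem exactAt_iff_exactMat [DecidableEq α] [DecidableEq β] [DecidableEq γ] [DecidableEq δ]
    (U : Matrix β α (MvPolynomial σ R)) (V : Matrix δ β (MvPolynomial σ R)) (W : Matrix δ γ (MvPolynomial σ R)) :
    ExactAt R U V W K ↔ ExactMat (MvPolynomial.map (algebraMap R K)) U V W := by
  let q := (LinearMap.range W.mulVecLin).mkQ.restrictScalars R
  have hq : Function.Exact (W.mulVecLin.restrictScalars R) q := LinearMap.exact_map_mkQ_range W.mulVecLin
  have hqK := lTensor_exact K hq (Submodule.mkQ_surjective (LinearMap.range W.mulVecLin))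
  have hv : ∀ t, ((snd R V W).restrictScalars R).baseChange K t = 0 ↔
      ∃ z, W.map (MvPolynomial.map (algebraMap R K)) *ᵥ z =
        V.map (MvPolynomial.map (algebraMap R K)) *ᵥ piEquiv R K β t := by
    intro t
    have he : (snd R V W).restrictScalars R = q ∘ₗ (V.mulVecLin.restrictScalars R) := rfl
    rw [he, LinearMap.baseChange_comp, LinearMap.comp_apply]
    refine (hqK _).trans ?_
    rw [← piEquiv_mulVec]
    constructor
    · rintro ⟨z, hz⟩
      exact ⟨piEquiv R K γ z, (piEquiv_mulVec R K W z).symm.trans (congrArg _ hz)⟩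
    · rintro ⟨z, hz⟩
      obtain ⟨z, rfl⟩ := (piEquiv R K γ).surjective z
      exact ⟨z, (piEquiv R K δ).injective ((piEquiv_mulVec R K W z).trans hz)⟩
  have hu : ∀ t, t ∈ Set.range ((U.mulVecLin.restrictScalars R).baseChange K) ↔
      ∃ y, U.map (MvPolynomial.map (algebraMap R K)) *ᵥ y = piEquiv R K β t := by
    intro t
    constructor
    · rintro ⟨y, rfl⟩
      exact ⟨piEquiv R K α y, (piEquiv_mulVec R K U y).symm⟩
    · rintro ⟨y, hy⟩
      obtain ⟨y, rfl⟩ := (piEquiv R K α).surjective y
      exact ⟨y, (piEquiv R K β).injective ((piEquiv_mulVec R K U y).trans hy)⟩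
  constructor
  · intro h x
    obtain ⟨t, rfl⟩ := (piEquiv R K β).surjective x
    exact (hv t).symm.trans ((h t).trans (hu t))
  · intro h t
    exact (hv t).trans ((h _).trans (hu t).symm)

/-- Matrices with coefficients in a smaller ring. -/
theorem exactAt_map_iff {R₀ : Type u} [CommRing R₀] [Algebra R₀ R] [Algebra R₀ K] [IsScalarTower R₀ R K]
    [DecidableEq α] [DecidableEq β] [DecidableEq γ] [DecidableEq δ]
    (U : Matrix β α (MvPolynomial σ R₀)) (V : Matrix δ β (MvPolynomial σ R₀)) (W : Matrix δ γ (MvPolynomial σ R₀)) :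
    ExactAt R (U.map (MvPolynomial.map (algebraMap R₀ R))) (V.map (MvPolynomial.map (algebraMap R₀ R)))
      (W.map (MvPolynomial.map (algebraMap R₀ R))) K ↔ ExactAt R₀ U V W K := by
  rw [exactAt_iff_exactMat, exactAt_iff_exactMat]
  have : (⇑(MvPolynomial.map (σ := σ) (algebraMap R K)) ∘ ⇑(MvPolynomial.map (algebraMap R₀ R))) =
      ⇑(MvPolynomial.map (σ := σ) (algebraMap R₀ K)) := funext fun p => by
    rw [Function.comp_apply, MvPolynomial.map_map, ← IsScalarTower.algebraMap_eq]
  unfold ExactMat
  simp only [Matrix.map_map, this]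

end Matrix

/-- Exactness of a base change is invariant under field extensions. -/
theorem exact_baseChange_field_iff {R : Type u} [CommRing R] {M N P : Type u} [AddCommGroup M] [Module R M]
    [AddCommGroup N] [Module R N] [AddCommGroup P] [Module R P] (a : M →ₗ[R] N) (b : N →ₗ[R] P)
    (K L : Type u) [Field K] [Field L] [Algebra R K] [Algebra R L] [Algebra K L] [IsScalarTower R K L] :
    Function.Exact (a.baseChange L) (b.baseChange L) ↔ Function.Exact (a.baseChange K) (b.baseChange K) := by
  rw [← Module.FaithfullyFlat.lTensor_exact_iff_exact K L (a.baseChange K) (b.baseChange K)]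
  refine Function.Exact.iff_of_ladder_linearEquiv
    (e₁ := ((TensorProduct.AlgebraTensorModule.cancelBaseChange R K L L M).restrictScalars K).toAddEquiv.toIntLinearEquiv)
    (e₂ := ((TensorProduct.AlgebraTensorModule.cancelBaseChange R K L L N).restrictScalars K).toAddEquiv.toIntLinearEquiv)
    (e₃ := ((TensorProduct.AlgebraTensorModule.cancelBaseChange R K L L P).restrictScalars K).toAddEquiv.toIntLinearEquiv)
    (f₁₂ := ((a.baseChange K).lTensor L).toAddMonoidHom.toIntLinearMap)
    (f₂₃ := ((b.baseChange K).lTensor L).toAddMonoidHom.toIntLinearMap)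
    (g₁₂ := (a.baseChange L).toAddMonoidHom.toIntLinearMap)
    (g₂₃ := (b.baseChange L).toAddMonoidHom.toIntLinearMap) ?_ ?_
  all_goals
    refine LinearMap.ext fun t => ?_
    induction t using TensorProduct.induction_on with
    | zero => simp
    | add x y hx hy => rw [map_add, map_add, hx, hy]
    | tmul l m =>
      induction m using TensorProduct.induction_on with
      | zero => simp
      | add x y hx hy => rw [tmul_add, map_add, map_add, hx, hy]
      | tmul k m => simp

section Generic

variable {R : Type u} [CommRing R] [IsDomain R] {B : Type u} [CommRing B] [Algebra R B] [Algebra.FiniteType R B]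

/-- An element nonzero at the generic fibre is nonzero at the nearby fibres. -/
theorem exists_forall_tmul_ne_zero {Q : Type u} [AddCommGroup Q] [Module B Q] [Module R Q] [IsScalarTower R B Q]
    [Module.Finite B Q] (x : Q) (hx : (1 : FractionRing R) ⊗ₜ[R] x ≠ 0) :
    ∃ f : R, f ≠ 0 ∧ ∀ (K : Type u) [Field K] [Algebra R K], algebraMap R K f ≠ 0 → (1 : K) ⊗ₜ[R] x ≠ 0 := by
  classical
  obtain ⟨f, hf, ι, φ, hφ, hs⟩ := Groth.GenericFree.gf_of_finiteType (R := R) B Q
  obtain ⟨k, a, ha⟩ := hs x
  have hfr : algebraMap R (FractionRing R) (f ^ k) ≠ 0 :=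
    ((FaithfulSMul.algebraMap_injective R (FractionRing R)).ne_iff' (map_zero _)).2 (pow_ne_zero _ hf)
  have ha0 : a ≠ 0 := by
    rintro rfl
    rw [map_zero] at ha
    have h1 : algebraMap R (FractionRing R) (f ^ k) • ((1 : FractionRing R) ⊗ₜ[R] x) = 0 := by
      rw [algebraMap_smul, ← tmul_smul, ← ha, tmul_zero]
    exact hx ((smul_eq_zero_iff_right hfr).1 h1)
  obtain ⟨i, hi⟩ := Finsupp.ne_iff.1 ha0
  rw [Finsupp.zero_apply] at hi
  refine ⟨f * a i, mul_ne_zero hf hi, fun K _ _ h h0 => ?_⟩
  rw [map_mul] at h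
  have hφb := Groth.SpectralTopology.bijective_baseChange_of_cofinal φ hφ hs K (IsUnit.mk0 _ (left_ne_zero_of_mul h))
  have h1 : φ.baseChange K ((1 : K) ⊗ₜ[R] a) = 0 := by
    rw [LinearMap.baseChange_tmul, ha, tmul_smul, h0, smul_zero]
  have h2 := congrArg (fun t => TensorProduct.finsuppScalarRight R K K ι t i)
    ((hφb.1 (h1.trans (map_zero _).symm)))
  simp only [TensorProduct.finsuppScalarRight_apply_tmul_apply, map_zero, Finsupp.zero_apply] at h2
  rw [Algebra.smul_def, mul_one] at h2
  exact right_ne_zero_of_mul h h2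

/-- Exactness at the fibres is constant near the generic fibre. -/
theorem exists_forall_exact_iff
    {F G H : Type u} [AddCommGroup F] [Module B F] [Module R F] [IsScalarTower R B F] [Module.Finite B F]
    [AddCommGroup G] [Module B G] [Module R G] [IsScalarTower R B G] [Module.Finite B G]
    [AddCommGroup H] [Module B H] [Module R H] [IsScalarTower R B H] [Module.Finite B H]
    (u : F →ₗ[B] G) (v : G →ₗ[B] H) :
    ∃ f : R, f ≠ 0 ∧ ∀ (K : Type u) [Field K] [Algebra R K], algebraMap R K f ≠ 0 →
      (Function.Exact ((u.restrictScalars R).baseChange K) ((v.restrictScalars R).baseChange K) ↔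
        Function.Exact ((u.restrictScalars R).baseChange (FractionRing R))
          ((v.restrictScalars R).baseChange (FractionRing R))) := by
  let L := FractionRing R
  by_cases hgen : Function.Exact ((u.restrictScalars R).baseChange L) ((v.restrictScalars R).baseChange L)
  · obtain ⟨f, hf, h⟩ := Groth.SpectralTopology.exists_forall_exact u v hgen
    exact ⟨f, hf, fun K _ _ hK => iff_of_true (h K hK) hgen⟩
  suffices ∃ f : R, f ≠ 0 ∧ ∀ (K : Type u) [Field K] [Algebra R K], algebraMap R K f ≠ 0 →
      ¬ Function.Exact ((u.restrictScalars R).baseChange K) ((v.restrictScalars R).baseChange K) by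
    obtain ⟨f, hf, h⟩ := this
    exact ⟨f, hf, fun K _ _ hK => iff_of_false (h K hK) hgen⟩
  by_cases hcomp : ∃ y : F, (1 : L) ⊗ₜ[R] v (u y) ≠ 0
  · obtain ⟨y, hy⟩ := hcomp
    obtain ⟨f, hf, h⟩ := exists_forall_tmul_ne_zero (B := B) _ hy
    refine ⟨f, hf, fun K _ _ hK hex => h K hK ?_⟩
    simpa using (hex _).2 ⟨(1 : K) ⊗ₜ[R] y, rfl⟩
  push Not at hcomp
  have hzero : ∀ t, (v.restrictScalars R).baseChange L ((u.restrictScalars R).baseChange L t) = 0 := by
    intro t
    induction t using TensorProduct.induction_on with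
    | zero => simp
    | add a b ha hb => rw [map_add, map_add, ha, hb, add_zero]
    | tmul c y => simpa [TensorProduct.smul_tmul'] using congrArg (c • ·) (hcomp y)
  obtain ⟨t, htv, htu⟩ : ∃ t, (v.restrictScalars R).baseChange L t = 0 ∧
      t ∉ Set.range ((u.restrictScalars R).baseChange L) := by
    by_contra hne
    push Not at hne
    exact hgen fun t => ⟨hne t, by rintro ⟨y, rfl⟩; exact hzero y⟩
  haveI : IsLocalizedModule (nonZeroDivisors R) (TensorProduct.mk R L G 1) :=
    (isLocalizedModule_iff_isBaseChange (nonZeroDivisors R) L _).2 (TensorProduct.isBaseChange R G L)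
  obtain ⟨⟨g, ⟨c, hc⟩⟩, hgc⟩ := IsLocalizedModule.surj (nonZeroDivisors R) (TensorProduct.mk R L G 1) t
  change c • t = (1 : L) ⊗ₜ[R] g at hgc
  have hcL : algebraMap R L c ≠ 0 :=
    ((FaithfulSMul.algebraMap_injective R L).ne_iff' (map_zero _)).2 (nonZeroDivisors.ne_zero hc)
  obtain ⟨r, hr, hrv⟩ : ∃ r : R, r ≠ 0 ∧ r • v g = 0 := by
    refine Groth.SpectralTopology.exists_smul_eq_zero_of_tmul ?_
    have := congrArg ((v.restrictScalars R).baseChange L) hgc
    rw [← algebraMap_smul L, map_smul, htv, smul_zero] at this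
    simpa using this.symm
  let π := Submodule.mkQ (LinearMap.range u)
  have hexu : Function.Exact (u.restrictScalars R) (π.restrictScalars R) := LinearMap.exact_map_mkQ_range u
  have hπs : Function.Surjective (π.restrictScalars R) := Submodule.mkQ_surjective (LinearMap.range u)
  have hq : (1 : L) ⊗ₜ[R] π g ≠ 0 := by
    intro h0
    obtain ⟨y, hy⟩ := (lTensor_exact L hexu hπs ((1 : L) ⊗ₜ[R] g)).1 (by simpa using h0)
    refine htu ⟨(algebraMap R L c)⁻¹ • y, ?_⟩
    rw [map_smul]
    rw [show (u.restrictScalars R).baseChange L y = (1 : L) ⊗ₜ[R] g from hy, ← hgc, ← algebraMap_smul L c t,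
      inv_smul_smul₀ hcL]
  obtain ⟨f, hf, h⟩ := exists_forall_tmul_ne_zero (B := B) _ hq
  refine ⟨r * f, mul_ne_zero hr hf, fun K _ _ hK hex => ?_⟩
  rw [map_mul] at hK
  have hvK : (v.restrictScalars R).baseChange K ((1 : K) ⊗ₜ[R] g) = 0 := by
    refine (smul_eq_zero_iff_right (left_ne_zero_of_mul hK)).1 ?_
    rw [algebraMap_smul, LinearMap.baseChange_tmul, ← tmul_smul, LinearMap.restrictScalars_apply, hrv, tmul_zero]
  obtain ⟨y, hy⟩ := (hex _).1 hvK
  refine h K (right_ne_zero_of_mul hK) ?_
  simpa using (lTensor_exact K hexu hπs ((1 : K) ⊗ₜ[R] g)).2 ⟨y, hy⟩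

end Generic

section Constructible

variable {σ : Type} [Finite σ] {α β γ δ : Type} [Fintype α] [Fintype β] [Fintype γ] [Fintype δ]
  [DecidableEq α] [DecidableEq β] [DecidableEq γ] [DecidableEq δ]

theorem isConstructible_exactAt_noetherian {R : Type u} [CommRing R] [IsNoetherianRing R]
    (U : Matrix β α (MvPolynomial σ R)) (V : Matrix δ β (MvPolynomial σ R)) (W : Matrix δ γ (MvPolynomial σ R)) :
    IsConstructible {p : PrimeSpectrum R | ExactAt R U V W p.asIdeal.ResidueField} := by
  refine Groth.SpectralTopology.isConstructible_of_forall_irreducible fun Z hZ hirr => ?_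
  obtain ⟨ζ, hζ⟩ := QuasiSober.sober hirr hZ
  have hζZ : ζ ∈ Z := hζ.def ▸ subset_closure rfl
  let A := R ⧸ ζ.asIdeal
  let g := MvPolynomial.map (σ := σ) (algebraMap R A)
  obtain ⟨f, hf, hconst⟩ := exists_forall_exact_iff (R := A) (B := MvPolynomial σ A)
    (U.map g).mulVecLin (snd A (V.map g) (W.map g))
  obtain ⟨a, rfl⟩ := Ideal.Quotient.mk_surjective f
  have key : ∀ P ∈ Z, a ∉ P.asIdeal → (ExactAt R U V W P.asIdeal.ResidueField ↔
      ExactAt A (U.map g) (V.map g) (W.map g) (FractionRing A)) := by
    intro P hP ha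
    have hle : ζ.asIdeal ≤ P.asIdeal := (PrimeSpectrum.le_iff_specializes _ _).2 (hζ.specializes hP)
    letI : Algebra A P.asIdeal.ResidueField := (Ideal.Quotient.lift ζ.asIdeal (algebraMap R P.asIdeal.ResidueField)
      fun x hx => Ideal.algebraMap_residueField_eq_zero.2 (hle hx)).toAlgebra
    haveI : IsScalarTower R A P.asIdeal.ResidueField := IsScalarTower.of_algebraMap_eq fun x => rfl
    rw [← exactAt_map_iff A P.asIdeal.ResidueField U V W]
    exact hconst P.asIdeal.ResidueField (fun h0 => ha (Ideal.algebraMap_residueField_eq_zero.1 h0))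
  have haζ : a ∉ ζ.asIdeal := fun h => hf (Ideal.Quotient.eq_zero_iff_mem.2 h)
  let D : Set (PrimeSpectrum R) := PrimeSpectrum.basicOpen a
  have hD : IsOpen D := PrimeSpectrum.isOpen_basicOpen
  by_cases hE : ExactAt A (U.map g) (V.map g) (W.map g) (FractionRing A)
  · exact Or.inr ⟨D, hD, ⟨ζ, haζ, hζZ⟩, fun P hP => (key P hP.2 hP.1).2 hE⟩
  · left
    rw [IsNowhereDense, Set.eq_empty_iff_forall_notMem]
    intro z hz
    obtain ⟨O, hOsub, hO, hzO⟩ := mem_interior.1 hz
    obtain ⟨O', hO', rfl⟩ := isOpen_induced_iff.1 hO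
    obtain ⟨w, hwD, hw⟩ := mem_closure_iff.1
      (hOsub (show (⟨ζ, hζZ⟩ : Z) ∈ Subtype.val ⁻¹' O' from (hζ.specializes z.2).mem_open hO' hzO))
      (Subtype.val ⁻¹' D) (hD.preimage continuous_subtype_val) haζ
    exact hE ((key w.1 w.2 hwD).1 hw)

theorem isConstructible_exactAt {R : Type u} [CommRing R]
    (U : Matrix β α (MvPolynomial σ R)) (V : Matrix δ β (MvPolynomial σ R)) (W : Matrix δ γ (MvPolynomial σ R)) :
    IsConstructible {p : PrimeSpectrum R | ExactAt R U V W p.asIdeal.ResidueField} := by
  classical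
  let coe : Set R := (⋃ q : β × α, ((U q.1 q.2).coeffs : Set R)) ∪ (⋃ q : δ × β, ((V q.1 q.2).coeffs : Set R)) ∪
    ⋃ q : δ × γ, ((W q.1 q.2).coeffs : Set R)
  have hfin : coe.Finite := ((Set.finite_iUnion fun _ => Finset.finite_toSet _).union
    (Set.finite_iUnion fun _ => Finset.finite_toSet _)).union (Set.finite_iUnion fun _ => Finset.finite_toSet _)
  let R₀ : Subalgebra ℤ R := Algebra.adjoin ℤ coe
  haveI : Algebra.FiniteType ℤ R₀ := .adjoin_of_finite hfin
  haveI : IsNoetherianRing R₀ := Algebra.FiniteType.isNoetherianRing ℤ R₀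
  let h := MvPolynomial.map (σ := σ) (algebraMap R₀ R)
  have hlift : ∀ p : MvPolynomial σ R, (↑p.coeffs : Set R) ⊆ coe → ∃ p₀, h p₀ = p := by
    intro p hp
    have : p ∈ Set.range (MvPolynomial.map (algebraMap R₀ R)) := by
      rw [MvPolynomial.mem_range_map_iff_coeffs_subset]
      exact fun x hx => ⟨⟨x, Algebra.subset_adjoin (hp hx)⟩, rfl⟩
    exact this
  choose! g hg using hlift
  have hU : (U.map g).map h = U := by
    ext1 i j
    exact hg _ ((Set.subset_iUnion (fun q : β × α => ((U q.1 q.2).coeffs : Set R)) (i, j)).trans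
      (Set.subset_union_left.trans Set.subset_union_left))
  have hV : (V.map g).map h = V := by
    ext1 i j
    exact hg _ ((Set.subset_iUnion (fun q : δ × β => ((V q.1 q.2).coeffs : Set R)) (i, j)).trans
      (Set.subset_union_right.trans Set.subset_union_left))
  have hW : (W.map g).map h = W := by
    ext1 i j
    exact hg _ ((Set.subset_iUnion (fun q : δ × γ => ((W q.1 q.2).coeffs : Set R)) (i, j)).trans
      Set.subset_union_right)
  have hpre := (AlgebraicGeometry.Spec.map (CommRingCat.ofHom (algebraMap R₀ R))).isConstructible_preimage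
    (isConstructible_exactAt_noetherian (U.map g) (V.map g) (W.map g))
  convert! hpre using 1
  ext p
  let p₀ := PrimeSpectrum.comap (algebraMap R₀ R) p
  show ExactAt R U V W p.asIdeal.ResidueField ↔
    ExactAt R₀ (U.map g) (V.map g) (W.map g) p₀.asIdeal.ResidueField
  letI : Algebra p₀.asIdeal.ResidueField p.asIdeal.ResidueField :=
    (Ideal.ResidueField.map p₀.asIdeal p.asIdeal (algebraMap R₀ R) rfl).toAlgebra
  haveI : IsScalarTower R₀ p₀.asIdeal.ResidueField p.asIdeal.ResidueField :=
    IsScalarTower.of_algebraMap_eq fun x => by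
      rw [RingHom.algebraMap_toAlgebra, Ideal.ResidueField.map_algebraMap, ← IsScalarTower.algebraMap_apply]
  conv_lhs => rw [← hU, ← hV, ← hW]
  rw [exactAt_map_iff]
  exact exact_baseChange_field_iff _ _ _ _

theorem isConstructible_exact {R : Type u} [CommRing R] {n : ℕ}
    {F G H : Type u}
    [AddCommGroup F] [Module (MvPolynomial (Fin n) R) F] [Module R F] [IsScalarTower R (MvPolynomial (Fin n) R) F]
    [Module.FinitePresentation (MvPolynomial (Fin n) R) F]
    [AddCommGroup G] [Module (MvPolynomial (Fin n) R) G] [Module R G] [IsScalarTower R (MvPolynomial (Fin n) R) G]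
    [Module.FinitePresentation (MvPolynomial (Fin n) R) G]
    [AddCommGroup H] [Module (MvPolynomial (Fin n) R) H] [Module R H] [IsScalarTower R (MvPolynomial (Fin n) R) H]
    [Module.FinitePresentation (MvPolynomial (Fin n) R) H]
    (u : F →ₗ[MvPolynomial (Fin n) R] G) (v : G →ₗ[MvPolynomial (Fin n) R] H) :
    IsConstructible {p : PrimeSpectrum R |
      Function.Exact ((u.restrictScalars R).baseChange p.asIdeal.ResidueField)
        ((v.restrictScalars R).baseChange p.asIdeal.ResidueField)} := by
  classical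
  let P := MvPolynomial (Fin n) R
  obtain ⟨a, πF, hπF⟩ := Module.Finite.exists_fin' P F
  obtain ⟨b, KG, eG, hKG⟩ := Module.FinitePresentation.exists_fin P G
  obtain ⟨c, KH, eH, hKH⟩ := Module.FinitePresentation.exists_fin P H
  obtain ⟨e, ρ, hρ⟩ := KG.fg_iff_exists_fin_linearMap.1 hKG
  obtain ⟨d, ω, hω⟩ := KH.fg_iff_exists_fin_linearMap.1 hKH
  let πG : (Fin b → P) →ₗ[P] G := eG.symm.toLinearMap ∘ₗ KG.mkQ
  let πH : (Fin c → P) →ₗ[P] H := eH.symm.toLinearMap ∘ₗ KH.mkQ
  have hπG : Function.Surjective πG := eG.symm.surjective.comp KG.mkQ_surjective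
  have hπH : Function.Surjective πH := eH.symm.surjective.comp KH.mkQ_surjective
  obtain ⟨u', hu'⟩ := Module.projective_lifting_property πG (u ∘ₗ πF) hπG
  obtain ⟨v', hv'⟩ := Module.projective_lifting_property πH (v ∘ₗ πG) hπH
  let U : Matrix (Fin b) (Fin a ⊕ Fin e) P := Matrix.fromCols (LinearMap.toMatrix' u') (LinearMap.toMatrix' ρ)
  let V : Matrix (Fin c) (Fin b) P := LinearMap.toMatrix' v'
  let W : Matrix (Fin c) (Fin d) P := LinearMap.toMatrix' ω
  convert! isConstructible_exactAt U V W using 1
  ext p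
  let K := p.asIdeal.ResidueField
  have hUapp : ∀ x, U *ᵥ x = u' (x ∘ Sum.inl) + ρ (x ∘ Sum.inr) := fun x => by
    show Matrix.fromCols (LinearMap.toMatrix' u') (LinearMap.toMatrix' ρ) *ᵥ x = _
    rw [Matrix.fromCols_mulVec, LinearMap.toMatrix'_mulVec, LinearMap.toMatrix'_mulVec]
  have hrange : LinearMap.range W.mulVecLin = KH := by
    rw [← hω]
    exact congrArg LinearMap.range (Matrix.toLin'_toMatrix' ω)
  let eH' : ((Fin c → P) ⧸ LinearMap.range W.mulVecLin) ≃ₗ[P] H :=
    (Submodule.quotEquivOfEq _ _ hrange).trans eH.symm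
  have hsnd : ((eH'.toLinearMap.restrictScalars R) ∘ₗ (snd R V W).restrictScalars R) =
      (v.restrictScalars R) ∘ₗ (πG.restrictScalars R) := by
    refine LinearMap.ext fun x => ?_
    show eH' ((LinearMap.range W.mulVecLin).mkQ (V *ᵥ x)) = v (πG x)
    rw [← LinearMap.comp_apply v, ← hv', LinearMap.toMatrix'_mulVec]
    simp [eH', πH, Submodule.quotEquivOfEq_mk]
  have hπGρ : Function.Exact (ρ.restrictScalars R) (πG.restrictScalars R) := by
    intro x
    show πG x = 0 ↔ x ∈ Set.range ρ
    rw [← LinearMap.coe_range, hρ]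
    simp [πG]
  have hπK : Function.Surjective ((πG.restrictScalars R).baseChange K) := LinearMap.lTensor_surjective K hπG
  have hρK := lTensor_exact K hπGρ hπG
  have hvK : ∀ t, ((snd R V W).restrictScalars R).baseChange K t = 0 ↔
      (v.restrictScalars R).baseChange K ((πG.restrictScalars R).baseChange K t) = 0 := by
    intro t
    rw [← LinearMap.comp_apply ((v.restrictScalars R).baseChange K), ← LinearMap.baseChange_comp, ← hsnd,
      LinearMap.baseChange_comp, LinearMap.comp_apply]
    have hinj : Function.Injective ((eH'.toLinearMap.restrictScalars R).baseChange K) := by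
      refine Function.HasLeftInverse.injective ⟨(eH'.symm.toLinearMap.restrictScalars R).baseChange K, fun x => ?_⟩
      rw [← LinearMap.comp_apply, ← LinearMap.baseChange_comp, show (eH'.symm.toLinearMap.restrictScalars R) ∘ₗ
        (eH'.toLinearMap.restrictScalars R) = LinearMap.id from LinearMap.ext fun y => eH'.symm_apply_apply y,
        LinearMap.baseChange_id, LinearMap.id_apply]
    exact (map_eq_zero_iff _ hinj).symm
  have huK : ∀ t, t ∈ Set.range ((U.mulVecLin.restrictScalars R).baseChange K) ↔
      (πG.restrictScalars R).baseChange K t ∈ Set.range ((u.restrictScalars R).baseChange K) := by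
    intro t
    have hfac : (πG.restrictScalars R) ∘ₗ (U.mulVecLin.restrictScalars R) =
        (u.restrictScalars R) ∘ₗ (πF.restrictScalars R) ∘ₗ (LinearMap.funLeft R P Sum.inl) := by
      refine LinearMap.ext fun x => ?_
      show πG (U *ᵥ x) = u (πF (x ∘ Sum.inl))
      rw [hUapp, map_add, ← LinearMap.comp_apply πG u', hu', show πG (ρ (x ∘ Sum.inr)) = 0 from (hπGρ (ρ (x ∘ Sum.inr))).2 ⟨_, rfl⟩, add_zero]
      rfl
    constructor
    · rintro ⟨y, rfl⟩
      rw [← LinearMap.comp_apply, ← LinearMap.baseChange_comp, hfac, LinearMap.baseChange_comp, LinearMap.comp_apply]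
      exact ⟨_, rfl⟩
    · rintro ⟨y, hy⟩
      obtain ⟨y, rfl⟩ := LinearMap.lTensor_surjective K (g := πF.restrictScalars R) hπF y
      have h1 : (πG.restrictScalars R).baseChange K ((u'.restrictScalars R).baseChange K y - t) = 0 := by
        rw [map_sub, ← LinearMap.comp_apply, ← LinearMap.baseChange_comp,
          show (πG.restrictScalars R) ∘ₗ (u'.restrictScalars R) = (u.restrictScalars R) ∘ₗ (πF.restrictScalars R) from
            congrArg (LinearMap.restrictScalars R) hu', LinearMap.baseChange_comp, LinearMap.comp_apply]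
        exact sub_eq_zero.2 hy
      obtain ⟨z, hz⟩ := (hρK _).1 h1
      let i₁ : (Fin a → P) →ₗ[R] (Fin a ⊕ Fin e → P) :=
        { toFun := fun x => Sum.elim x 0
          map_add' := fun x y => funext fun i => by cases i <;> simp
          map_smul' := fun r x => funext fun i => by cases i <;> simp }
      let i₂ : (Fin e → P) →ₗ[R] (Fin a ⊕ Fin e → P) :=
        { toFun := fun x => Sum.elim 0 x
          map_add' := fun x y => funext fun i => by cases i <;> simp
          map_smul' := fun r x => funext fun i => by cases i <;> simp }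
      have h2 : (U.mulVecLin.restrictScalars R) ∘ₗ i₁ = u'.restrictScalars R := LinearMap.ext fun x => by
        show U *ᵥ Sum.elim x 0 = u' x
        rw [hUapp, Sum.elim_comp_inl, Sum.elim_comp_inr, map_zero, add_zero]
      have h3 : (U.mulVecLin.restrictScalars R) ∘ₗ i₂ = ρ.restrictScalars R := LinearMap.ext fun x => by
        show U *ᵥ Sum.elim 0 x = ρ x
        rw [hUapp, Sum.elim_comp_inl, Sum.elim_comp_inr, map_zero, zero_add]
      refine ⟨i₁.baseChange K y - i₂.baseChange K z, ?_⟩
      rw [map_sub, ← LinearMap.comp_apply, ← LinearMap.baseChange_comp, h2, ← LinearMap.comp_apply,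
        ← LinearMap.baseChange_comp, h3]
      change (u'.restrictScalars R).baseChange K y - (ρ.restrictScalars R).baseChange K z = t
      rw [show (ρ.restrictScalars R).baseChange K z = (u'.restrictScalars R).baseChange K y - t from hz]
      abel
  show Function.Exact _ _ ↔ Function.Exact _ _
  constructor
  · intro h t
    exact (hvK t).trans ((h _).trans (huK t).symm)
  · intro h t
    obtain ⟨t, rfl⟩ := hπK t
    exact (hvK t).symm.trans ((h t).trans (huK t))

end Constructible

end Groth.Ega43Geom.ExactLocus
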