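import Mathlib
import Groth.Agent.Ega43Geom.HtLocus
import Groth.Agent.Ega43FP2.PdConstructible

/-!
# Vanishing of a function on the fibres of a closed subscheme of affine space

The set of points `P` of affine space over `A` at which a polynomial `b` lies in the extension of a
finitely generated ideal `I` to the local ring of the fibre is constructible.
-/

set_option autoImplicit false
set_option linter.style.haveILetI false
universe u

open CategoryTheory AlgebraicGeometry Topology
open scoped TensorProduct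

set_option synthInstance.maxHeartbeats 400000
set_option maxHeartbeats 1600000

attribute [local instance] MvPolynomial.algebraMvPolynomial

namespace Groth.Ega43Geom

open Groth.Ega43FP2

variable {A : Type u} [CommRing A] {n : ℕ}

/-- The points at which `b` vanishes in the fibre of `V(I)`. -/
def memLocus (A : Type u) [CommRing A] (n : ℕ) (I : Ideal (MvPolynomial (Fin n) A))
    (b : MvPolynomial (Fin n) A) : Set (PrimeSpectrum (MvPolynomial (Fin n) A)) :=
  {P | algebraMap (MvPolynomial (Fin n) A) (FibRing P A) b ∈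
    I.map (algebraMap (MvPolynomial (Fin n) A) (FibRing P A))}

theorem mem_memLocus_iff (I : Ideal (MvPolynomial (Fin n) A)) (b : MvPolynomial (Fin n) A)
    (P : PrimeSpectrum (MvPolynomial (Fin n) A)) :
    P ∈ memLocus A n I b ↔ ∃ s, s ∉ P.asIdeal ∧
      s * b ∈ I ⊔ (P.asIdeal.under A).map (algebraMap A (MvPolynomial (Fin n) A)) := by
  let B := MvPolynomial (Fin n) A
  let Br := Localization.AtPrime P.asIdeal
  let J := (P.asIdeal.under A).map (algebraMap A Br)
  have hJ : J = ((P.asIdeal.under A).map (algebraMap A B)).map (algebraMap B Br) := by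
    rw [Ideal.map_map, ← IsScalarTower.algebraMap_eq]
  show Ideal.Quotient.mk J (algebraMap B Br b) ∈ I.map ((Ideal.Quotient.mk J).comp (algebraMap B Br)) ↔ _
  rw [← Ideal.map_map, ← Ideal.mem_comap, Ideal.comap_map_of_surjective _ Ideal.Quotient.mk_surjective,
    ← RingHom.ker_eq_comap_bot, Ideal.mk_ker, hJ, ← Ideal.map_sup,
    IsLocalization.algebraMap_mem_map_algebraMap_iff P.asIdeal.primeCompl]
  exact ⟨fun ⟨s, hs, h⟩ => ⟨s, hs, h⟩, fun ⟨s, hs, h⟩ => ⟨s, hs, h⟩⟩

theorem preimage_memLocus (A' : Type u) [CommRing A'] [Algebra A A'] (I : Ideal (MvPolynomial (Fin n) A))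
    (b : MvPolynomial (Fin n) A) :
    PrimeSpectrum.comap (algebraMap (MvPolynomial (Fin n) A) (MvPolynomial (Fin n) A')) ⁻¹' memLocus A n I b =
      memLocus A' n (I.map (algebraMap (MvPolynomial (Fin n) A) (MvPolynomial (Fin n) A')))
        (algebraMap (MvPolynomial (Fin n) A) (MvPolynomial (Fin n) A') b) := by
  ext P'
  obtain ⟨φ, hloc, hflat, hcomp⟩ := exists_fibRing_baseChange P'
    (PrimeSpectrum.comap (algebraMap (MvPolynomial (Fin n) A) (MvPolynomial (Fin n) A')) P') rfl
  let B := MvPolynomial (Fin n) A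
  let B' := MvPolynomial (Fin n) A'
  let P := PrimeSpectrum.comap (algebraMap B B') P'
  letI : Algebra (FibRing P A) (FibRing P' A') := φ.toAlgebra
  haveI : IsLocalHom (algebraMap (FibRing P A) (FibRing P' A')) := hloc
  haveI : Module.Flat (FibRing P A) (FibRing P' A') := hflat
  haveI : Module.FaithfullyFlat (FibRing P A) (FibRing P' A') := Module.FaithfullyFlat.of_flat_of_isLocalHom
  show algebraMap B (FibRing P A) b ∈ I.map (algebraMap B (FibRing P A)) ↔
    algebraMap B' (FibRing P' A') (algebraMap B B' b) ∈ (I.map (algebraMap B B')).map (algebraMap B' (FibRing P' A'))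
  rw [Ideal.map_map, ← hcomp, ← Ideal.map_map, ← RingHom.comp_apply (algebraMap B' _) (algebraMap B B'), ← hcomp,
    RingHom.comp_apply]
  conv_lhs => rw [← Ideal.comap_map_eq_self_of_faithfullyFlat (B := FibRing P' A') (I.map (algebraMap B (FibRing P A)))]
  exact Iff.rfl

/-- The locus is open where the quotient is flat over the base. -/
theorem isOpen_memLocus_of_flat (I : Ideal (MvPolynomial (Fin n) A)) (b : MvPolynomial (Fin n) A)
    [Module.Flat A (MvPolynomial (Fin n) A ⧸ (I ⊔ Ideal.span {b}))] : IsOpen (memLocus A n I b) := by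
  let B := MvPolynomial (Fin n) A
  let J : Ideal B := I ⊔ Ideal.span {b}
  have hint : ∀ (q : Ideal A) (x : B), x ∈ J → x ∈ q.map (algebraMap A B) → x ∈ I ⊔ (q.map (algebraMap A B)) * Ideal.span {b} := by
    intro q x hxJ hxq
    let ι : J.restrictScalars A →ₗ[A] B := (J.restrictScalars A).subtype
    let π : B →ₗ[A] B ⧸ J := (Ideal.Quotient.mkₐ A J).toLinearMap
    have hinj := LinearMap.lTensor_injective_of_exact_of_flat π Ideal.Quotient.mk_surjective ι
      Subtype.val_injective (fun y => by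
        show Ideal.Quotient.mk J y = 0 ↔ _
        rw [Ideal.Quotient.eq_zero_iff_mem]
        exact ⟨fun h => ⟨⟨y, h⟩, rfl⟩, by rintro ⟨⟨y, h⟩, rfl⟩; exact h⟩) (A ⧸ q)
    have hxJ' : x ∈ J.restrictScalars A := hxJ
    have hzero : ι.lTensor (A ⧸ q) (1 ⊗ₜ[A] ⟨x, hxJ'⟩) = 0 := by
      refine (TensorProduct.quotTensorEquivQuotSMul B q).injective ?_
      rw [map_zero, LinearMap.lTensor_tmul, TensorProduct.quotTensorEquivQuotSMul_mk_one_tmul,
        Submodule.Quotient.mk_eq_zero, Ideal.smul_top_eq_map]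
      exact hxq
    have h1 : (1 : A ⧸ q) ⊗ₜ[A] (⟨x, hxJ'⟩ : J.restrictScalars A) = 0 := hinj (by rw [hzero, map_zero])
    have h2 := congrArg (TensorProduct.quotTensorEquivQuotSMul (J.restrictScalars A) q) h1
    rw [map_zero, TensorProduct.quotTensorEquivQuotSMul_mk_one_tmul, Submodule.Quotient.mk_eq_zero] at h2
    have hkey : ∀ w : J.restrictScalars A, w ∈ q • (⊤ : Submodule A (J.restrictScalars A)) →
        (w : B) ∈ I ⊔ (q.map (algebraMap A B)) * Ideal.span {b} := by
      intro w hw
      refine Submodule.smul_induction_on hw (fun a ha y _ => ?_) (fun y z hy hz => Ideal.add_mem _ hy hz)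
      obtain ⟨i, hi, c, hc, hic⟩ := Submodule.mem_sup.1 y.2
      show a • (y : B) ∈ _
      rw [← hic, smul_add, Algebra.smul_def, Algebra.smul_def]
      exact Ideal.add_mem _ (Ideal.mem_sup_left (Ideal.mul_mem_left _ _ hi))
        (Ideal.mem_sup_right (Ideal.mul_mem_mul (Ideal.mem_map_of_mem _ ha) hc))
    exact hkey _ h2
  have heq : memLocus A n I b =
      (PrimeSpectrum.zeroLocus (Submodule.colon I ({b} : Set B) : Set B))ᶜ := by
    ext P
    rw [mem_memLocus_iff, Set.mem_compl_iff, PrimeSpectrum.mem_zeroLocus, SetLike.coe_subset_coe,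
      SetLike.not_le_iff_exists]
    constructor
    · rintro ⟨s, hsP, hs⟩
      obtain ⟨i, hi, y, hy, hiy⟩ := Submodule.mem_sup.1 hs
      have hyJ : y ∈ J := by
        rw [show y = s * b - i by rw [← hiy]; ring]
        exact Ideal.sub_mem _ (Ideal.mem_sup_right (Ideal.mul_mem_left _ _ (Ideal.mem_span_singleton_self b)))
          (Ideal.mem_sup_left hi)
      obtain ⟨i', hi', z, hz, hiz⟩ := Submodule.mem_sup.1 (hint _ y hyJ hy)
      obtain ⟨c, hc, rfl⟩ := Ideal.mem_mul_span_singleton.1 hz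
      have hcP : c ∈ P.asIdeal := Ideal.map_comap_le hc
      refine ⟨s - c, Submodule.mem_colon_singleton.2 ?_, fun h => hsP (by simpa using Ideal.add_mem _ h hcP)⟩
      rw [smul_eq_mul, sub_mul, ← hiy, ← hiz]
      simpa [← add_assoc] using Ideal.add_mem _ hi hi'
    · rintro ⟨s, hs, hsP⟩
      exact ⟨s, hsP, Ideal.mem_sup_left (Submodule.mem_colon_singleton.1 hs)⟩
  rw [heq]
  exact (PrimeSpectrum.isClosed_zeroLocus _).isOpen_compl

theorem isConstructible_memLocus_noetherian [IsNoetherianRing A] (I : Ideal (MvPolynomial (Fin n) A))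
    (b : MvPolynomial (Fin n) A) : IsConstructible (memLocus A n I b) := by
  refine Groth.SpectralTopology.isConstructible_of_forall_irreducible fun Z hZ hirr => ?_
  obtain ⟨ζ, hζ⟩ := QuasiSober.sober hirr hZ
  have hζZ : ζ ∈ Z := hζ.def ▸ subset_closure rfl
  let p := ζ.asIdeal.under A
  let B := MvPolynomial (Fin n) A
  obtain ⟨a, hap, hflat⟩ := Groth.FlatMorOne.exists_notMem_algStratFlat (M := B ⧸ (I ⊔ Ideal.span {b}))
    B p (Ideal.IsPrime.isRadical inferInstance) (Ideal.IsPrime.ne_top inferInstance)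
  let A' := Localization.Away (Ideal.Quotient.mk p a)
  let B' := MvPolynomial (Fin n) A'
  haveI : Module.Flat A' (A' ⊗[A] (B ⧸ (I ⊔ Ideal.span {b}))) := by
    refine hflat A' ?_ ?_
    · refine eq_bot_iff.2 (Ideal.map_le_iff_le_comap.2 fun x hx => ?_)
      rw [Ideal.mem_comap, Ideal.mem_bot, IsScalarTower.algebraMap_apply A (A ⧸ p) A',
        Ideal.Quotient.algebraMap_eq, Ideal.Quotient.eq_zero_iff_mem.2 hx, map_zero]
    · refine Ideal.eq_top_of_isUnit_mem _ (Ideal.mem_map_of_mem _ (Ideal.mem_sup_right (Ideal.mem_span_singleton_self a))) ?_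
      rw [IsScalarTower.algebraMap_apply A (A ⧸ p) A']
      exact IsLocalization.Away.algebraMap_isUnit (S := A') (Ideal.Quotient.mk p a)
  have hJ : (I ⊔ Ideal.span {b}).map (algebraMap B B') = I.map (algebraMap B B') ⊔ Ideal.span {algebraMap B B' b} := by
    rw [Ideal.map_sup, Ideal.map_span, Set.image_singleton]
  haveI : Module.Flat A' (B' ⊗[B] (B ⧸ (I ⊔ Ideal.span {b}))) :=
    Module.Flat.of_linearEquiv (Algebra.IsPushout.cancelBaseChange A A' B B' (B ⧸ (I ⊔ Ideal.span {b})))
  haveI : Module.Flat A' (B' ⧸ (I ⊔ Ideal.span {b}).map (algebraMap B B')) :=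
    Module.Flat.of_linearEquiv ((Algebra.TensorProduct.quotIdealMapEquivTensorQuot B' (I ⊔ Ideal.span {b})).toLinearEquiv.restrictScalars A')
  haveI : Module.Flat A' (B' ⧸ (I.map (algebraMap B B') ⊔ Ideal.span {algebraMap B B' b})) :=
    Module.Flat.of_linearEquiv ((Ideal.quotientEquivAlgOfEq A' hJ).symm.toLinearEquiv)
  obtain ⟨O, hO, hOpre⟩ := exists_isOpen_preimage_eq a p _ (isOpen_memLocus_of_flat (I.map (algebraMap B B')) (algebraMap B B' b))
  rw [← preimage_memLocus] at hOpre
  let D : Set (PrimeSpectrum B) := PrimeSpectrum.basicOpen (algebraMap A B a)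
  have hD : IsOpen D := PrimeSpectrum.isOpen_basicOpen
  have hmem : ∀ P ∈ Z, P ∈ D → (P ∈ memLocus A n I b ↔ P ∈ O) := by
    intro P hP hPD
    obtain ⟨P', rfl⟩ := exists_point_over a p P
      (Ideal.comap_mono ((PrimeSpectrum.le_iff_specializes _ _).2 (hζ.specializes hP))) hPD
    exact (Set.ext_iff.1 hOpre P').symm
  have hζD : ζ ∈ D := hap
  by_cases hE : ζ ∈ O
  · exact Or.inr ⟨O ∩ D, hO.inter hD, ⟨ζ, ⟨hE, hζD⟩, hζZ⟩, fun P hP => (hmem P hP.2 hP.1.2).2 hP.1.1⟩
  · left
    rw [IsNowhereDense, Set.eq_empty_iff_forall_notMem]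
    intro z hz
    obtain ⟨V, hVsub, hV, hzV⟩ := mem_interior.1 hz
    obtain ⟨V', hV', rfl⟩ := isOpen_induced_iff.1 hV
    have hζV : ζ ∈ V' := (hζ.specializes z.2).mem_open hV' hzV
    obtain ⟨w, hwD, hw⟩ := mem_closure_iff.1 (hVsub (show (⟨ζ, hζZ⟩ : Z) ∈ Subtype.val ⁻¹' V' from hζV))
      (Subtype.val ⁻¹' D) (hD.preimage continuous_subtype_val) hζD
    exact hE ((hζ.specializes w.2).mem_open hO ((hmem w.1 w.2 hwD).1 hw))

/-- Constructibility over an arbitrary ring. -/
theorem isConstructible_memLocus {I : Ideal (MvPolynomial (Fin n) A)} (hI : I.FG) (b : MvPolynomial (Fin n) A) :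
    IsConstructible (memLocus A n I b) := by
  classical
  obtain ⟨t, rfl⟩ := hI
  let coe : Set A := (b.coeffs : Set A) ∪ ⋃ c ∈ (t : Set (MvPolynomial (Fin n) A)), (c.coeffs : Set A)
  have hfin : coe.Finite := (Finset.finite_toSet _).union (t.finite_toSet.biUnion fun c _ => Finset.finite_toSet _)
  let A₀ : Subalgebra ℤ A := Algebra.adjoin ℤ coe
  haveI : Algebra.FiniteType ℤ A₀ := .adjoin_of_finite hfin
  haveI : IsNoetherianRing A₀ := Algebra.FiniteType.isNoetherianRing ℤ A₀
  let B := MvPolynomial (Fin n) A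
  let B₀ := MvPolynomial (Fin n) A₀
  have hrange : ∀ c : B, (↑c.coeffs : Set A) ⊆ coe → ∃ c₀ : B₀, algebraMap B₀ B c₀ = c := by
    intro c hc
    have : c ∈ Set.range (MvPolynomial.map (algebraMap A₀ A)) := by
      rw [MvPolynomial.mem_range_map_iff_coeffs_subset]
      exact fun x hx => ⟨⟨x, Algebra.subset_adjoin (hc hx)⟩, rfl⟩
    exact this
  obtain ⟨b₀, hb₀⟩ := hrange b Set.subset_union_left
  have : ∀ c ∈ (t : Set B), ∃ c₀ : B₀, algebraMap B₀ B c₀ = c := fun c hc =>
    hrange c (Set.subset_union_of_subset_right (Set.subset_biUnion_of_mem (u := fun c : B => (c.coeffs : Set A)) hc) _)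
  choose g hg using this
  have hI0 : Ideal.span (t : Set B) = (Ideal.span (Set.range fun c : (t : Set B) => g c.1 c.2)).map (algebraMap B₀ B) := by
    rw [Ideal.map_span, ← Set.range_comp]
    refine congrArg Ideal.span ?_
    ext c
    exact ⟨fun hc => ⟨⟨c, hc⟩, hg c hc⟩, fun ⟨d, hd⟩ => by
      rw [← hd, Function.comp_apply, hg d.1 d.2]
      exact d.2⟩
  have h := (AlgebraicGeometry.Spec.map (CommRingCat.ofHom (algebraMap B₀ B))).isConstructible_preimage
    (isConstructible_memLocus_noetherian (Ideal.span (Set.range fun c : (t : Set B) => g c.1 c.2)) b₀)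
  change IsConstructible (memLocus A n (Ideal.span (t : Set B)) b)
  rw [← hb₀, hI0, ← preimage_memLocus]
  exact h

end Groth.Ega43Geom
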