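import Mathlib
import Groth.Agent.Ega43Geom.FibMember
import Groth.Agent.Ega43Geom.ConsBase
import Groth.Agent.Misc3Fitt.Props
import Groth.Agent.LocFree.Rank
import Groth.Agent.PropsBasic.LocFree
import Groth.Agent.QCohMod.PullbackQCoh

/-!
# Local freeness of a module on the fibres is constructible
-/

set_option autoImplicit false
set_option linter.style.haveILetI false
set_option linter.unusedSectionVars false
universe u

open CategoryTheory CategoryTheory.Limits AlgebraicGeometry Topology
open scoped TensorProduct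

set_option synthInstance.maxHeartbeats 400000
set_option maxHeartbeats 1600000

attribute [local instance] MvPolynomial.algebraMvPolynomial

namespace Groth.Ega43Geom

/-- Freeness of rank `r` over a local ring through Fitting ideals. -/
theorem free_finrank_iff_fitt {R M : Type u} [CommRing R] [IsLocalRing R] [AddCommGroup M] [Module R M]
    [Module.Finite R M] (r : ℕ) :
    (Module.Free R M ∧ Module.finrank R M = r) ↔
      (∀ k, k < r → Fitt.ideal R M k = ⊥) ∧ Fitt.ideal R M r = ⊤ := by
  constructor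
  · rintro ⟨hfree, hr⟩
    haveI := hfree
    have b := Module.finBasisOfFinrankEq R M hr
    exact ⟨fun k hk => (Groth.Misc3Fitt.ideal_of_basis b k).trans (if_neg (not_le.2 hk)),
      (Groth.Misc3Fitt.ideal_of_basis b r).trans (if_pos le_rfl)⟩
  · rintro ⟨hlow, htop⟩
    obtain ⟨x, hx⟩ := Groth.Misc3Fitt.exists_span_of_fitt_eq_top_of_local htop
    have hli : LinearIndependent R x := by
      rw [Fintype.linearIndependent_iff]
      intro c hc i
      have hrk : r - 1 < r := by have := i.2; omega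
      have hfit := hlow (r - 1) hrk
      rw [Groth.Misc3Fitt.ideal_eq_fitt x hx, Groth.Misc3Fitt.fitt, show r - (r - 1) = 1 by omega] at hfit
      have hmem := Groth.Misc3Fitt.minor_mem (K := Groth.Misc3Fitt.rel (R := R) x) (z := fun _ : Fin 1 => c)
        (fun _ => i) (fun _ => Groth.Misc3Fitt.mem_rel.2 hc)
      rw [hfit, Ideal.mem_bot] at hmem
      simpa [Groth.Misc3Fitt.minor] using hmem
    let b := Module.Basis.mk hli hx.ge
    exact ⟨Module.Free.of_basis b, by rw [Module.finrank_eq_card_basis b, Fintype.card_fin]⟩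

variable {X S : Scheme.{u}} (f : X ⟶ S)

/-- The image of a section in a stalk of a fibre. -/
noncomputable def secFib {W : X.Opens} (g : Γ(X, W)) : Set X :=
  {x | ∃ hz : f.fiberι _ (f.asFiber x) ∈ W,
    (Groth.SchDom.secAlg (f.fiberι _) (f.asFiber x) hz).algebraMap g = 0}

theorem isConstructible_preimage_secFib [LocallyOfFinitePresentation f] {W : X.Opens} (hW : IsAffineOpen W)
    {O : S.Opens} (hO : IsAffineOpen O) (hWO : W ≤ f ⁻¹ᵁ O) (g : Γ(X, W)) :
    IsConstructible (hW.fromSpec ⁻¹' secFib f g) := by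
  let : Algebra Γ(S, O) Γ(X, W) := (f.appLE O W hWO).hom.toAlgebra
  have : Algebra.FinitePresentation Γ(S, O) Γ(X, W) := f.finitePresentation_appLE hO hW hWO
  obtain ⟨n, φ, hφ, hker⟩ := Algebra.FinitePresentation.out (R := Γ(S, O)) (A := Γ(X, W))
  let B := MvPolynomial (Fin n) Γ(S, O)
  have hAlg : ∀ a : Γ(S, O), φ (algebraMap Γ(S, O) B a) = algebraMap Γ(S, O) Γ(X, W) a := fun a => φ.commutes a
  obtain ⟨b, rfl⟩ := hφ g
  convert! (Spec.map (CommRingCat.ofHom φ.toRingHom)).isConstructible_preimage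
    (isConstructible_memLocus hker b) using 1
  ext w
  have hxW : hW.fromSpec w ∈ W := hW.range_fromSpec.subset ⟨w, rfl⟩
  have hz : f.fiberι _ (f.asFiber (hW.fromSpec w)) ∈ W := (f.fiberι_asFiber _).symm ▸ hxW
  obtain ⟨μ, -, hcomm, hkerμ⟩ := Groth.Ega43FP2.exists_fibRing_hom f hO hW hWO φ.toRingHom hφ hAlg _
    (f.asFiber (hW.fromSpec w)) hz
  have hpt : Groth.Ega43FP2.chartPt f hW φ.toRingHom _ (f.asFiber (hW.fromSpec w)) hz =
      PrimeSpectrum.comap φ.toRingHom w := by
    refine congrArg (PrimeSpectrum.comap φ.toRingHom) (hW.fromSpec.isOpenEmbedding.injective ?_)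
    rw [hW.fromSpec_primeIdealOf]
    exact f.fiberι_asFiber _
  show hW.fromSpec w ∈ secFib f (φ b) ↔
    PrimeSpectrum.comap φ.toRingHom w ∈ memLocus Γ(S, O) n (RingHom.ker φ.toRingHom) b
  rw [← hpt]
  show (∃ hz, _) ↔ algebraMap B _ b ∈ Ideal.map (algebraMap B _) (RingHom.ker φ.toRingHom)
  constructor
  · rintro ⟨_, h0⟩
    exact hkerμ ((hcomm b).trans h0)
  · intro h
    refine ⟨hz, ?_⟩
    have hle : (RingHom.ker φ.toRingHom).map (algebraMap B _) ≤ RingHom.ker μ :=
      Ideal.map_le_iff_le_comap.2 fun c hc => by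
        rw [Ideal.mem_comap, RingHom.mem_ker, hcomm, RingHom.mem_ker.1 hc, map_zero]
    exact ((hcomm b).symm.trans (RingHom.mem_ker.1 (hle h)))

/-- Freeness of rank `r` of a fibre stalk, in terms of Fitting ideals over an affine open. -/
theorem free_fibre_stalk_iff (F : X.Modules) [F.IsQuasicoherent] (hF : CohB1.IsFP F) {W : X.Opens}
    (hW : IsAffineOpen W) (r : ℕ) (T : ℕ → Finset Γ(X, W))
    (hT : ∀ k, Ideal.span (T k : Set Γ(X, W)) = Fitt.ideal Γ(X, W) Γ(F, W) k) (x : X) (hx : x ∈ W) :
    (Module.Free ((f.fiber (f.base x)).presheaf.stalk (f.asFiber x))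
        (((Scheme.Modules.pullback (f.fiberι _)).obj F).presheaf.stalk (f.asFiber x)) ∧
      Module.finrank ((f.fiber (f.base x)).presheaf.stalk (f.asFiber x))
        (((Scheme.Modules.pullback (f.fiberι _)).obj F).presheaf.stalk (f.asFiber x)) = r) ↔
      (∀ k, k < r → ∀ g ∈ T k, x ∈ secFib f g) ∧ ∃ g ∈ T r, x ∈ X.basicOpen g := by
  have hz : f.fiberι _ (f.asFiber x) ∈ W := (f.fiberι_asFiber _).symm ▸ hx
  let := Groth.SchDom.secAlg (f.fiberι _) (f.asFiber x) hz
  haveI : Module.FinitePresentation Γ(X, W) Γ(F, W) := Groth.Flatmor4.finitePresentation_sections_of_isFP F hF hW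
  obtain ⟨θ⟩ := Groth.SchDom.nonempty_pullStalk_equiv (f.fiberι _) F hW (f.asFiber x) hz
  let R0 := (f.fiber (f.base x)).presheaf.stalk (f.asFiber x)
  haveI : Module.Finite R0 (((Scheme.Modules.pullback (f.fiberι _)).obj F).presheaf.stalk (f.asFiber x)) :=
    Module.Finite.equiv θ
  have hfit : ∀ k, Fitt.ideal R0 (((Scheme.Modules.pullback (f.fiberι _)).obj F).presheaf.stalk (f.asFiber x)) k =
      Ideal.span (algebraMap Γ(X, W) R0 '' (T k : Set Γ(X, W))) := fun k => by
    rw [← Groth.Misc3Fitt.ideal_congr θ, Groth.Misc3Fitt.ideal_baseChange, ← hT k, Ideal.map_span]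
  have hunit : ∀ g : Γ(X, W), IsUnit (algebraMap Γ(X, W) R0 g) ↔ x ∈ X.basicOpen g := by
    intro g
    show IsUnit ((f.fiberι _).stalkMap (f.asFiber x) (X.presheaf.germ W _ hz g)) ↔ _
    rw [isUnit_map_iff, ← X.mem_basicOpen g (f.fiberι _ (f.asFiber x)) hz, f.fiberι_asFiber]
  rw [free_finrank_iff_fitt, hfit r]
  refine and_congr (forall₂_congr fun k _ => ?_) ?_
  · rw [hfit k, Ideal.span_eq_bot]
    constructor
    · intro h g hg
      exact ⟨hz, h _ ⟨g, hg, rfl⟩⟩
    · rintro h _ ⟨g, hg, rfl⟩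
      obtain ⟨_, h0⟩ := h g hg
      exact h0
  · constructor
    · intro h
      by_contra hne
      refine (IsLocalRing.maximalIdeal.isMaximal R0).ne_top (top_le_iff.1 (h.ge.trans (Ideal.span_le.2 ?_)))
      rintro _ ⟨g, hg, rfl⟩
      exact (IsLocalRing.mem_maximalIdeal _).2 fun hu => hne ⟨g, hg, (hunit g).1 hu⟩
    · rintro ⟨g, hg, hgx⟩
      exact Ideal.eq_top_of_isUnit_mem _ (Ideal.subset_span ⟨g, hg, rfl⟩) ((hunit g).2 hgx)

variable [LocallyOfFinitePresentation f] (F : X.Modules) [F.IsQuasicoherent]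

theorem isConstructible_preimage_free_rank (hF : CohB1.IsFP F) {W : X.Opens} (hW : IsAffineOpen W)
    {O : S.Opens} (hO : IsAffineOpen O) (hWO : W ≤ f ⁻¹ᵁ O) (r : ℕ) :
    IsConstructible (hW.fromSpec ⁻¹' {x : X |
      Module.Free ((f.fiber (f.base x)).presheaf.stalk (f.asFiber x))
          (((Scheme.Modules.pullback (f.fiberι _)).obj F).presheaf.stalk (f.asFiber x)) ∧
        Module.finrank ((f.fiber (f.base x)).presheaf.stalk (f.asFiber x))
          (((Scheme.Modules.pullback (f.fiberι _)).obj F).presheaf.stalk (f.asFiber x)) = r}) := by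
  haveI : Module.FinitePresentation Γ(X, W) Γ(F, W) := Groth.Flatmor4.finitePresentation_sections_of_isFP F hF hW
  choose T hT using fun k => Groth.Misc3Fitt.ideal_fg (R := Γ(X, W)) (M := Γ(F, W)) k
  have h1 := IsConstructible.biInter (Set.finite_Iio r) (f := fun k =>
    ⋂ g ∈ (T k : Set Γ(X, W)), hW.fromSpec ⁻¹' secFib f g) fun k _ =>
    IsConstructible.biInter (T k).finite_toSet fun g _ => isConstructible_preimage_secFib f hW hO hWO g
  have h2 := IsConstructible.biUnion (T r).finite_toSet (f := fun g => hW.fromSpec ⁻¹' (X.basicOpen g : Set X))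
    fun g _ => IsCompact.isConstructible (by
      rw [hW.fromSpec.isOpenEmbedding.isCompact_iff, Set.image_preimage_eq_inter_range, hW.range_fromSpec,
        Set.inter_eq_left.2 (X.basicOpen_le g)]
      exact (hW.basicOpen g).isCompact) ((X.basicOpen g).isOpen.preimage hW.fromSpec.continuous)
  convert! h1.inter h2 using 1
  ext w
  simp only [Set.mem_preimage, Set.mem_ofPred_eq, Set.mem_inter_iff, Set.mem_iInter, Set.mem_iUnion, Set.mem_Iio,
    SetLike.mem_coe, exists_prop]
  exact free_fibre_stalk_iff f F hF hW r T hT _ (hW.range_fromSpec.subset ⟨w, rfl⟩)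

theorem isLocallyConstructible_free_rank (hF : CohB1.IsFP F) (r : ℕ) : IsLocallyConstructible {x : X |
    Module.Free ((f.fiber (f.base x)).presheaf.stalk (f.asFiber x))
        (((Scheme.Modules.pullback (f.fiberι _)).obj F).presheaf.stalk (f.asFiber x)) ∧
      Module.finrank ((f.fiber (f.base x)).presheaf.stalk (f.asFiber x))
        (((Scheme.Modules.pullback (f.fiberι _)).obj F).presheaf.stalk (f.asFiber x)) = r} :=
  Groth.Ega43FP2.isLocallyConstructible_of_charts f _ fun {_} hW {_} hO hWO =>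
    isConstructible_preimage_free_rank f F hF hW hO hWO r

theorem isLocallyConstructible_free (hF : CohB1.IsFP F) : IsLocallyConstructible {x : X |
    Module.Free ((f.fiber (f.base x)).presheaf.stalk (f.asFiber x))
      (((Scheme.Modules.pullback (f.fiberι _)).obj F).presheaf.stalk (f.asFiber x))} := by
  refine Groth.Ega43FP2.isLocallyConstructible_of_charts f _ fun {W} hW {O} hO hWO => ?_
  haveI : Module.FinitePresentation Γ(X, W) Γ(F, W) := Groth.Flatmor4.finitePresentation_sections_of_isFP F hF hW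
  obtain ⟨N, g, hg⟩ := Module.Finite.exists_fin (R := Γ(X, W)) (M := Γ(F, W))
  convert! IsConstructible.biUnion (Set.finite_Iic N) fun r _ =>
    isConstructible_preimage_free_rank f F hF hW hO hWO r using 1
  ext w
  simp only [Set.mem_preimage, Set.mem_ofPred_eq, Set.mem_iUnion, Set.mem_Iic, exists_prop]
  have hxW : hW.fromSpec w ∈ W := hW.range_fromSpec.subset ⟨w, rfl⟩
  generalize hW.fromSpec w = x at hxW ⊢
  refine ⟨fun h => ⟨_, ?_, h, rfl⟩, fun ⟨r, _, h, _⟩ => h⟩
  have hz : f.fiberι _ (f.asFiber x) ∈ W := (f.fiberι_asFiber _).symm ▸ hxW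
  let := Groth.SchDom.secAlg (f.fiberι _) (f.asFiber x) hz
  obtain ⟨θ⟩ := Groth.SchDom.nonempty_pullStalk_equiv (f.fiberι _) F hW (f.asFiber x) hz
  let R0 := (f.fiber (f.base x)).presheaf.stalk (f.asFiber x)
  haveI := h
  haveI : Module.Finite R0 (((Scheme.Modules.pullback (f.fiberι _)).obj F).presheaf.stalk (f.asFiber x)) :=
    Module.Finite.equiv θ
  have h1 := Groth.Misc3Fitt.ideal_congr θ N
  rw [Groth.Misc3Fitt.ideal_baseChange, Groth.Misc3Fitt.ideal_eq_top_of_span g hg le_rfl, Ideal.map_top] at h1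
  by_contra hlt
  rw [((free_finrank_iff_fitt (R := R0) _).1 ⟨h, rfl⟩).1 N (not_le.1 hlt)] at h1
  exact top_ne_bot h1

theorem isLocallyConstructible_finLocFree_fibre [QuasiCompact f] (hF : CohB1.IsFP F) :
    IsLocallyConstructible {s : S | FlatMod.IsFinLocFree ((Scheme.Modules.pullback (f.fiberι s)).obj F)} := by
  convert isLocallyConstructible_forall_fibre f (fun s z => Module.Free ((f.fiber s).presheaf.stalk z)
    (((Scheme.Modules.pullback (f.fiberι s)).obj F).presheaf.stalk z)) (isLocallyConstructible_free f F hF) using 1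
  ext s
  simp only [Set.mem_ofPred_eq]
  haveI : ((Scheme.Modules.pullback (f.fiberι s)).obj F).IsQuasicoherent := inferInstance
  rw [Groth.PropsBasic.LocFree.isFinLocFree_iff]
  exact and_iff_right (Groth.QCohMod.isFP_pullback (f.fiberι s) F hF)

theorem isLocallyConstructible_finLocFreeOfRank_fibre [QuasiCompact f] (hF : CohB1.IsFP F) (n : ℕ) :
    IsLocallyConstructible {s : S | FlatMod.IsFinLocFreeOfRank n ((Scheme.Modules.pullback (f.fiberι s)).obj F)} := by
  convert isLocallyConstructible_forall_fibre f (fun s z => Module.Free ((f.fiber s).presheaf.stalk z)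
      (((Scheme.Modules.pullback (f.fiberι s)).obj F).presheaf.stalk z) ∧
    Module.finrank ((f.fiber s).presheaf.stalk z) (((Scheme.Modules.pullback (f.fiberι s)).obj F).presheaf.stalk z) = n)
    (isLocallyConstructible_free_rank f F hF n) using 1
  ext s
  simp only [Set.mem_ofPred_eq]
  haveI : ((Scheme.Modules.pullback (f.fiberι s)).obj F).IsQuasicoherent := inferInstance
  rw [Groth.LocFree.isFinLocFreeOfRank_iff_finrank, Groth.PropsBasic.LocFree.isFinLocFree_iff, forall_and]
  exact and_congr (and_iff_right (Groth.QCohMod.isFP_pullback (f.fiberι s) F hF)) Iff.rfl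

end Groth.Ega43Geom
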