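import Mathlib
import Groth.Agent.Ega43Geom.ConsBase
import Groth.Agent.S5752

/-!
# Torsion and torsion-free fibres of a module, for fibres with integral local rings
-/

set_option autoImplicit false
set_option linter.style.haveILetI false
set_option linter.unusedSectionVars false
universe u

open CategoryTheory CategoryTheory.Limits AlgebraicGeometry Topology

set_option synthInstance.maxHeartbeats 400000
set_option maxHeartbeats 1600000

namespace Groth.Ega43Geom.FibTorsion

/-- Torsion-free at all localizations at associated primes. -/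
theorem torsion_eq_bot_of_associatedPrimes (R M : Type u) [CommRing R] [IsNoetherianRing R] [IsDomain R]
    [AddCommGroup M] [Module R M] (h : ∀ p ∈ associatedPrimes R M, p = ⊥) :
    Submodule.torsion R M = ⊥ := by
  rw [eq_bot_iff]
  rintro m ⟨a, ha⟩
  rw [Submodule.mem_bot]
  by_contra hm
  have hmem : (a : R) ∈ ⋃ p ∈ associatedPrimes R M, (p : Set R) := by
    rw [biUnion_associatedPrimes_eq_zero_divisors]
    exact ⟨m, hm, ha⟩
  obtain ⟨p, hp, hap⟩ := Set.mem_iUnion₂.1 hmem
  rw [h p hp] at hap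
  exact nonZeroDivisors.coe_ne_zero a hap

/-- A torsion-free module of depth zero lives over a field. -/
theorem maximalIdeal_eq_bot_of_depth_eq_zero (R M : Type u) [CommRing R] [IsLocalRing R] [IsNoetherianRing R]
    [IsDomain R] [AddCommGroup M] [Module R M] [Module.Finite R M] (ht : Submodule.torsion R M = ⊥)
    (hd : LocCoh.depth R M = 0) : IsLocalRing.maximalIdeal R = ⊥ := by
  rw [eq_bot_iff]
  intro a ha
  rw [Ideal.mem_bot]
  by_contra ha0
  have hmem : a ∈ ⋃ p ∈ associatedPrimes R M, (p : Set R) :=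
    Set.mem_iUnion₂_of_mem ((Groth.Agent.S5752.result R M).1 hd) ha
  rw [biUnion_associatedPrimes_eq_zero_divisors] at hmem
  obtain ⟨x, hx, hax⟩ := hmem
  have hxt : x ∈ Submodule.torsion R M := ⟨⟨a, mem_nonZeroDivisors_of_ne_zero ha0⟩, hax⟩
  rw [ht] at hxt
  exact hx hxt

variable {X S : Scheme.{u}} (f : X ⟶ S) [LocallyOfFinitePresentation f] (F : X.Modules) [F.IsQuasicoherent]

theorem specializes_fromSpecStalk (s : S) (x : f.fiber s) (q : Spec ((f.fiber s).presheaf.stalk x)) :
    (f.fiber s).fromSpecStalk x q ⤳ x := by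
  have : (f.fiber s).fromSpecStalk x q ∈ Set.range ((f.fiber s).fromSpecStalk x).base := ⟨_, rfl⟩
  rwa [Scheme.range_fromSpecStalk] at this

theorem torsionFree_iff (hF : CohB1.IsFT F) (s : S)
    (hint : ∀ x : f.fiber s, IsDomain ((f.fiber s).presheaf.stalk x)) :
    (∀ x : f.fiber s, Submodule.torsion ((f.fiber s).presheaf.stalk x)
      (((Scheme.Modules.pullback (f.fiberι s)).obj F).presheaf.stalk x) = ⊥) ↔
    ∀ z w : f.fiber s, Groth.Ega43FP2.depthAt f F s z = 0 → w ⤳ z → w = z := by
  haveI := Groth.Ega43FP2.isLocallyNoetherian_fibre f s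
  constructor
  · intro h z w hd hwz
    haveI := hint z
    haveI := Groth.Ega43FP2.finite_fibre_stalk f F hF s z
    have hbot := maximalIdeal_eq_bot_of_depth_eq_zero _ _ (h z) hd
    obtain ⟨q, rfl⟩ : w ∈ Set.range ((f.fiber s).fromSpecStalk z).base := by
      rw [Scheme.range_fromSpecStalk]; exact hwz
    have hq : q = IsLocalRing.closedPoint ((f.fiber s).presheaf.stalk z) := PrimeSpectrum.ext
      (le_antisymm (IsLocalRing.le_maximalIdeal q.isPrime.ne_top)
        (show IsLocalRing.maximalIdeal _ ≤ q.asIdeal by rw [hbot]; exact bot_le))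
    rw [hq, Scheme.fromSpecStalk_closedPoint]
  · intro h x
    haveI := hint x
    haveI := Groth.Ega43FP2.finite_fibre_stalk f F hF s x
    refine torsion_eq_bot_of_associatedPrimes _ _ fun p hp => ?_
    haveI := hp.isPrime
    have hd : Groth.Ega43FP2.depthAt f F s ((f.fiber s).fromSpecStalk x ⟨p, hp.isPrime⟩) = 0 := by
      rw [← (Groth.Ega43FP2.fibre_localization f F hF s x p).1, Groth.Agent.S5752.result]
      exact Module.associatedPrimes.mem_associatedPrimes_atPrime_of_mem_associatedPrimes hp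
    let η : Spec ((f.fiber s).presheaf.stalk x) := (⟨⊥, Ideal.isPrime_bot⟩ : PrimeSpectrum _)
    have hsp : η ⤳ (⟨p, hp.isPrime⟩ : PrimeSpectrum ((f.fiber s).presheaf.stalk x)) :=
      (PrimeSpectrum.le_iff_specializes _ _).1 bot_le
    have := h _ _ hd (hsp.map ((f.fiber s).fromSpecStalk x).continuous)
    exact (congrArg PrimeSpectrum.asIdeal (((f.fiber s).fromSpecStalk x).isEmbedding.injective this)).symm

theorem torsion_iff (hF : CohB1.IsFT F) (s : S)
    (hint : ∀ x : f.fiber s, IsDomain ((f.fiber s).presheaf.stalk x)) :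
    (∀ x : f.fiber s, Submodule.torsion ((f.fiber s).presheaf.stalk x)
      (((Scheme.Modules.pullback (f.fiberι s)).obj F).presheaf.stalk x) = ⊤) ↔
    ∀ z : f.fiber s, (∀ w, w ⤳ z → w = z) → z ∉ Groth.Ega43FP2.suppFib f F s := by
  haveI := Groth.Ega43FP2.isLocallyNoetherian_fibre f s
  constructor
  · intro h z hmax hz
    haveI := hint z
    have hbot : IsLocalRing.maximalIdeal ((f.fiber s).presheaf.stalk z) = ⊥ := by
      let η : Spec ((f.fiber s).presheaf.stalk z) := (⟨⊥, Ideal.isPrime_bot⟩ : PrimeSpectrum _)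
      have h1 := hmax _ (specializes_fromSpecStalk f s z η)
      exact (congrArg PrimeSpectrum.asIdeal (((f.fiber s).fromSpecStalk z).isEmbedding.injective
        (h1.trans Scheme.fromSpecStalk_closedPoint.symm))).symm
    refine not_nontrivial_iff_subsingleton.2 ?_ hz
    refine subsingleton_of_forall_eq 0 fun m => ?_
    obtain ⟨a, ha⟩ : m ∈ Submodule.torsion ((f.fiber s).presheaf.stalk z)
        (((Scheme.Modules.pullback (f.fiberι s)).obj F).presheaf.stalk z) := by rw [h z]; trivial
    have hau : IsUnit (a : (f.fiber s).presheaf.stalk z) := by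
      by_contra hu
      have : (a : (f.fiber s).presheaf.stalk z) ∈ IsLocalRing.maximalIdeal _ := hu
      rw [hbot, Ideal.mem_bot] at this
      exact nonZeroDivisors.coe_ne_zero a this
    exact hau.smul_eq_zero.1 ha
  · intro h x
    haveI := hint x
    let η : PrimeSpectrum ((f.fiber s).presheaf.stalk x) := ⟨⊥, Ideal.isPrime_bot⟩
    have hmax : ∀ w, w ⤳ (f.fiber s).fromSpecStalk x η → w = (f.fiber s).fromSpecStalk x η := by
      intro w hw
      obtain ⟨q, rfl⟩ : w ∈ Set.range ((f.fiber s).fromSpecStalk x).base := by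
        rw [Scheme.range_fromSpecStalk]; exact hw.trans (specializes_fromSpecStalk f s x η)
      have hq : q ⤳ (η : Spec ((f.fiber s).presheaf.stalk x)) :=
        ((f.fiber s).fromSpecStalk x).isEmbedding.toIsInducing.specializes_iff.1 hw
      exact congrArg _ (PrimeSpectrum.ext (le_antisymm
        (show q.asIdeal ≤ η.asIdeal from (PrimeSpectrum.le_iff_specializes q η).2 hq) bot_le))
    have hn := h _ hmax
    rw [Groth.Ega43FP2.mem_suppFib_iff, not_not,
      ← (Groth.Ega43FP2.fibre_localization f F hF s x η.asIdeal).2,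
      Module.supportDim_eq_bot_iff_subsingleton, LocalizedModule.subsingleton_iff] at hn
    rw [eq_top_iff]
    intro m _
    obtain ⟨r, hr, hrm⟩ := hn m
    exact ⟨⟨r, mem_nonZeroDivisors_of_ne_zero fun h0 => hr (h0 ▸ Ideal.zero_mem _)⟩, hrm⟩

/-- The points above a non-maximal associated point of the fibre. -/
def nonmaxAssAbove : Set X :=
  {x | ∃ z w : f.fiber (f.base x), z ⤳ f.asFiber x ∧ w ⤳ z ∧ w ≠ z ∧ Groth.Ega43FP2.depthAt f F _ z = 0}

theorem isLocallyConstructible_nonmaxAssAbove (hF : CohB1.IsFP F) :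
    IsLocallyConstructible (nonmaxAssAbove f F) := by
  refine Groth.Ega43FP2.isLocallyConstructible_of_charts f _ fun {W} hW {O} hO hWO => ?_
  obtain ⟨N, hN⟩ := Groth.FibreDim.exists_height_bound_of_affine f hO hW hWO
  let P : Set (ℕ × ℕ) := {q | q.1 < q.2 ∧ q.2 ≤ N}
  have hP : P.Finite := ((Set.finite_Iic N).prod (Set.finite_Iic N)).subset fun q hq =>
    ⟨le_trans hq.1.le hq.2, hq.2⟩
  have hB : ∀ q : ℕ × ℕ, IsConstructible (hW.fromSpec ⁻¹'
      htSet f (lowSet f F (q.1 + 1) ∩ htSet f Set.univ q.2) q.1) := fun q => by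
    refine isConstructible_preimage_htSet f hW hO hWO _ ?_ _
    rw [Set.preimage_inter]
    exact (isConstructible_preimage_lowSet f F hF hW _).inter
      (isConstructible_preimage_htSet f hW hO hWO _ (by rw [Set.preimage_univ]; exact IsConstructible.univ) _)
  convert! IsConstructible.biUnion hP fun q _ => hB q using 1
  ext v
  have hxW : hW.fromSpec v ∈ W := hW.range_fromSpec.subset ⟨v, rfl⟩
  simp only [Set.mem_preimage, Set.mem_iUnion]
  generalize hW.fromSpec v = x at hxW ⊢
  constructor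
  · rintro ⟨z, w, hz, hwz, hne, hdz⟩
    obtain ⟨a, ha⟩ := Groth.Ega43FP2.exists_height_eq_nat f _ z
    obtain ⟨b, hb⟩ := Groth.Ega43FP2.exists_height_eq_nat f _ w
    have hlt : z < w := lt_of_le_not_ge (Scheme.le_iff_specializes.2 hwz)
      fun h => hne ((Scheme.le_iff_specializes.1 h).antisymm hwz).eq.symm
    have hab := Order.height_strictMono hlt (by rw [ha]; exact ENat.natCast_lt_top a)
    rw [ha, hb, Nat.cast_lt] at hab
    have hwW : f.fiberι _ w ∈ W := ((specializes_asFiber_iff f x w).1 (hwz.trans hz)).mem_open W.isOpen hxW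
    have hbN : b ≤ N := Nat.cast_le.1 (hb ▸ hN _ w hwW)
    exact ⟨(a, b), ⟨hab, hbN⟩, z, hz, ⟨((mem_lowSet_and_height_iff f F a _ z).2 ⟨hdz, ha⟩).1,
      (mem_htSet_fiberι f _ b _ z).2 ⟨w, hwz, trivial, hb.ge⟩⟩, ha.ge⟩
  · rintro ⟨⟨a, b⟩, ⟨hab, -⟩, z, hz, ⟨hzL, hzH⟩, ha⟩
    obtain ⟨hdz, hza⟩ := (mem_lowSet_and_height_iff f F a _ z).1 ⟨hzL, ha⟩
    obtain ⟨w, hwz, -, hb⟩ := (mem_htSet_fiberι f _ b _ z).1 hzH
    refine ⟨z, w, hz, hwz, fun h => ?_, hdz⟩
    rw [h, hza, Nat.cast_le] at hb
    exact absurd hab (Nat.not_lt.2 hb)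

theorem isLocallyConstructible_torsionFree [QuasiCompact f] (hF : CohB1.IsFP F)
    (hint : ∀ (s : S) (x : ↥(f.fiber s)), IsDomain ((f.fiber s).presheaf.stalk x)) :
    IsLocallyConstructible {s : S | ∀ x : ↥(f.fiber s), Submodule.torsion ((f.fiber s).presheaf.stalk x)
      (((Scheme.Modules.pullback (f.fiberι s)).obj F).presheaf.stalk x) = ⊥} := by
  have hFT := Groth.PropsBasic.LocFree.isFT_of_isFP F hF
  have h := isLocallyConstructible_compl
    (f.isLocallyConstructible_image (isLocallyConstructible_nonmaxAssAbove f F hF))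
  convert! h using 1
  ext s
  rw [Set.mem_ofPred_eq, torsionFree_iff f F hFT s (hint s), Set.mem_compl_iff, Set.mem_image]
  constructor
  · rintro hs ⟨x, ⟨z, w, -, hwz, hne, hdz⟩, rfl⟩
    exact hne (hs z w hdz hwz)
  · intro hs z w hdz hwz
    by_contra hne
    have key : ∀ (x : X) (y : S) (z w : f.fiber y), f.base x = y → f.fiberι y z = x → w ⤳ z → w ≠ z →
        Groth.Ega43FP2.depthAt f F y z = 0 → x ∈ nonmaxAssAbove f F := by
      rintro x _ z w rfl hzx hwz hne hdz
      refine ⟨z, w, ?_, hwz, hne, hdz⟩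
      rw [specializes_asFiber_iff, hzx]
    exact hs ⟨_, key _ s z w (Groth.FibreDim.apply_fiberι f s z) rfl hwz hne hdz,
      Groth.FibreDim.apply_fiberι f s z⟩

/-- The points of the base whose fibre has a maximal point in a locally constructible set. -/
theorem isLocallyConstructible_exists_maximal [QuasiCompact f] {Z : Set X} (hZ : IsLocallyConstructible Z) :
    IsLocallyConstructible {s : S | ∃ z : f.fiber s, f.fiberι s z ∈ Z ∧ ∀ v, v ⤳ z → v = z} := by
  refine isLocallyConstructible_of_affine _ fun {O} hO => ?_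
  obtain ⟨N, hN⟩ := exists_height_bound_preimage f hO
  let C : ℕ → Set X := fun τ => htSet f (Z ∩ (htSet f Set.univ (τ + 1))ᶜ) τ
  have hC : ∀ τ, IsLocallyConstructible (C τ) := fun τ =>
    Groth.Ega43FP2.isLocallyConstructible_of_charts f _ fun {W} hW {O'} hO' hWO => by
      refine isConstructible_preimage_htSet f hW hO' hWO _ ?_ τ
      rw [Set.preimage_inter, Set.preimage_compl]
      exact (hZ.preimage_of_isOpenEmbedding hW.fromSpec.isOpenEmbedding).isConstructible.inter
        (isConstructible_preimage_htSet f hW hO' hWO _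
          (by rw [Set.preimage_univ]; exact IsConstructible.univ) _).compl
  have hI : ∀ τ, IsConstructible (hO.fromSpec ⁻¹' (f '' C τ)) := fun τ =>
    ((f.isLocallyConstructible_image (hC τ)).preimage_of_isOpenEmbedding hO.fromSpec.isOpenEmbedding).isConstructible
  convert! IsConstructible.biUnion (Set.finite_Iic N) fun τ _ => hI τ using 1
  ext v
  have hs : hO.fromSpec v ∈ O := hO.range_fromSpec.subset ⟨v, rfl⟩
  simp only [Set.mem_preimage, Set.mem_iUnion]
  generalize hO.fromSpec v = s at hs ⊢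
  constructor
  · rintro ⟨z, hzZ, hmax⟩
    obtain ⟨t, ht⟩ := Groth.Ega43FP2.exists_height_eq_nat f s z
    refine ⟨t, Nat.cast_le.1 (ht ▸ hN s z hs), f.fiberι s z,
      (mem_htSet_fiberι f _ t s z).2 ⟨z, specializes_rfl, ⟨hzZ, ?_⟩, ht.ge⟩, Groth.FibreDim.apply_fiberι f s z⟩
    rw [Set.mem_compl_iff, mem_htSet_fiberι]
    rintro ⟨v, hvz, -, hv⟩
    rw [hmax v hvz, ht, Nat.cast_le] at hv
    omega
  · rintro ⟨τ, -, x, ⟨z, -, ⟨hzZ, hzH⟩, hτ⟩, rfl⟩
    rw [Set.mem_compl_iff, mem_htSet_fiberι] at hzH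
    refine ⟨z, hzZ, fun v hvz => ?_⟩
    by_contra hne
    obtain ⟨b, hb⟩ := Groth.Ega43FP2.exists_height_eq_nat f _ v
    obtain ⟨a, ha⟩ := Groth.Ega43FP2.exists_height_eq_nat f _ z
    have hlt : z < v := lt_of_le_not_ge (Scheme.le_iff_specializes.2 hvz)
      fun h => hne ((Scheme.le_iff_specializes.1 h).antisymm hvz).eq.symm
    have hab := Order.height_strictMono hlt (by rw [ha]; exact ENat.natCast_lt_top a)
    rw [ha, hb, Nat.cast_lt] at hab
    rw [ha, Nat.cast_le] at hτ
    exact hzH ⟨v, hvz, trivial, by rw [hb, Nat.cast_le]; omega⟩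

theorem isLocallyConstructible_torsion [QuasiCompact f] (hF : CohB1.IsFP F)
    (hint : ∀ (s : S) (x : ↥(f.fiber s)), IsDomain ((f.fiber s).presheaf.stalk x)) :
    IsLocallyConstructible {s : S | ∀ x : ↥(f.fiber s), Submodule.torsion ((f.fiber s).presheaf.stalk x)
      (((Scheme.Modules.pullback (f.fiberι s)).obj F).presheaf.stalk x) = ⊤} := by
  have hFT := Groth.PropsBasic.LocFree.isFT_of_isFP F hF
  let Z : Set X := {x : X | (Groth.Ega43FP2.depthAt f F _ (f.asFiber x) : WithBot ℕ∞) +
    Groth.Ega43FP2.clDimAt f _ (f.asFiber x) = ((⊤ : ℕ∞) : WithBot ℕ∞)}ᶜ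
  have hZ : IsLocallyConstructible Z :=
    isLocallyConstructible_compl (Groth.Ega43FP2.isLocallyConstructible_depth_add_eq f F hF ⊤)
  have hmem : ∀ (s : S) (z : f.fiber s), f.fiberι s z ∈ Z ↔ z ∈ Groth.Ega43FP2.suppFib f F s := by
    intro s z
    obtain ⟨t, ht⟩ := Groth.Ega43FP2.exists_height_eq_nat f s z
    have h1 := Groth.Ega43FP2.apply_asFiber_eq f F
      (fun d _ c => ¬ (d : WithBot ℕ∞) + c = ((⊤ : ℕ∞) : WithBot ℕ∞)) s z
    rw [Groth.Ega43FP2.clDimAt_eq, ht] at h1
    refine h1.symm.trans (Iff.trans ?_ (depthAt_ne_top_iff f F hFT s z))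
    generalize Groth.Ega43FP2.depthAt f F s z = d
    rw [← WithBot.coe_add, WithBot.coe_inj]
    cases d using ENat.recTopCoe with
    | top => simp
    | coe d => simp [← Nat.cast_add]
  convert! isLocallyConstructible_compl (isLocallyConstructible_exists_maximal f hZ) using 1
  ext s
  rw [Set.mem_ofPred_eq, torsion_iff f F hFT s (hint s), Set.mem_compl_iff, Set.mem_ofPred_eq, not_exists]
  simp only [hmem, not_and]
  exact forall_congr' fun z => ⟨fun h hz hmax => h hmax hz, fun h hmax hz => h hz hmax⟩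

end Groth.Ega43Geom.FibTorsion
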